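import Cfsg.Agent.Chev.RadicalCentralizer
import Cfsg.Agent.Chev.TopRoot
import Cfsg.Agent.Chev.TopCentralizer

/-!
Parameters of the root elements in a subgroup, and their transfer by commutators.
-/

set_option autoImplicit false
set_option linter.unusedSectionVars false

namespace Cfsg.Agent.Overgroup

open Cfsg.Lie Cfsg.Agent.Chev
open scoped MatrixGroups

universe u

variable {D : ChevalleyDatum} {F : Type u} [Field F] (hF : Facts.{u} D)

/-- The subgroup generated by the root elements of index at least `k`. -/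
abbrev RF (k : ℕ) : Subgroup (GL D.Idx F) := Subgroup.closure (rootsFrom hF k (F := F))

/-- Conjugates the root elements with parameter one into `H`. -/
def Pre (H : Subgroup (GL D.Idx F)) (g : GL D.Idx F) : Prop :=
  ∀ s < D.nroots, g * xG hF s 1 * g⁻¹ ∈ H

/-- The parameters of the root elements of `r` in `H`. -/
def A (H : Subgroup (GL D.Idx F)) (r : ℕ) : AddSubgroup F where
  carrier := {t | xG hF r t ∈ H}
  zero_mem' := by simp only [Set.mem_ofPred_eq, xG_zero]; exact H.one_mem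
  add_mem' := fun {a b} ha hb => by
    show xG hF r (a + b) ∈ H
    rw [← xG_mul]; exact H.mul_mem ha hb
  neg_mem' := fun {a} ha => by
    show xG hF r (-a) ∈ H
    rw [← xG_inv]; exact H.inv_mem ha

/-- The leading parameters at `r` of elements of `H` lie in `S`. -/
def LeadLe (H : Subgroup (GL D.Idx F)) (r : ℕ) (S : AddSubgroup F) : Prop :=
  ∀ c : F, ∀ h ∈ RF hF (r + 1), xG hF r c * h ∈ H → c ∈ S

/-- A commutator with `x_s(1)` carrying leading parameters at `r` to those at `u`. -/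
structure Step (D : ChevalleyDatum) (p r s u : ℕ) (N : ℤ) : Prop where
  lt_r : r < D.nroots
  lt_s : s < D.nroots
  lt_u : u < D.nroots
  pos_r : half D ≤ r
  pos_u : half D ≤ u
  side : half D ≤ s ∨ r + 1 = D.nroots
  ne : s ≠ r
  ne_neg : s ≠ D.neg r
  unit : ¬ (p : ℤ) ∣ N
  head : ∃ pre post j, D.commTerms r s = pre ++ (u, N, 1, j) :: post ∧ ∀ c ∈ pre ++ post, u < c.1
  above : ∀ k, r < k → k < D.nroots → k ≠ s → ∀ c ∈ D.commTerms k s, u < c.1

include hF

theorem mem_A {H : Subgroup (GL D.Idx F)} {r : ℕ} {t : F} : t ∈ A hF H r ↔ xG hF r t ∈ H :=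
  Iff.rfl

theorem RF_mono {k l : ℕ} (h : k ≤ l) : RF hF l (F := F) ≤ RF hF k :=
  Subgroup.closure_mono fun g ⟨r, t, h1, h2, h3⟩ => ⟨r, t, by omega, h2, h3⟩

theorem RF_le_posUnipotent {k : ℕ} (hk : half D ≤ k) : RF hF k (F := F) ≤ D.posUnipotent F := by
  rw [posUnipotent_eq hF]; exact RF_mono hF hk

theorem xG_mem_RF {k r : ℕ} (hkr : k ≤ r) (hr : r < D.nroots) (t : F) : xG hF r t ∈ RF hF k :=
  Subgroup.subset_closure ⟨r, t, hkr, hr, rfl⟩

theorem RF_top {k : ℕ} (hk : D.nroots ≤ k) : RF hF k (F := F) = ⊥ := by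
  rw [eq_bot_iff, Subgroup.closure_le]
  rintro g ⟨r, t, h1, h2, -⟩
  omega

theorem conj_mem_RF {k : ℕ} (hk : half D ≤ k) {v g : GL D.Idx F} (hv : v ∈ D.posUnipotent F)
    (hg : g ∈ RF hF k) : v * g * v⁻¹ ∈ RF hF k :=
  (Subgroup.mem_normalizer_iff.1 (posUnipotent_le_normalizer_rootsFrom hF k hk hv) g).1 hg

theorem conj_mem_RF' {k : ℕ} (hk : half D ≤ k) {v g : GL D.Idx F} (hv : v ∈ D.posUnipotent F)
    (hg : g ∈ RF hF k) : v⁻¹ * g * v ∈ RF hF k := by
  have := conj_mem_RF hF hk (inv_mem hv) hg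
  rwa [inv_inv] at this

theorem exists_head {k : ℕ} (hk : half D ≤ k) (hkn : k < D.nroots) {g : GL D.Idx F}
    (hg : g ∈ RF hF k) : ∃ c, ∃ h ∈ RF hF (k + 1), g = xG hF k c * h := by
  obtain ⟨t, rfl⟩ := exists_prodFrom hF _ k rfl hk g hg
  exact ⟨t k, _, prodFrom_mem hF _ t, prodFrom_succ hF hkn t⟩

theorem conj_word {r s : ℕ} (hr : r < D.nroots) (hs : s < D.nroots) (hne : s ≠ r)
    (hnn : s ≠ D.neg r) (c v : F) :
    xG hF r c * xG hF s v * (xG hF r c)⁻¹ = xG hF s v * wordG hF (D.commWord F r s (-c) v) := by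
  have e := xG_comm hF hr hs hne hnn (-c) v
  rw [← xG_inv] at e
  calc xG hF r c * xG hF s v * (xG hF r c)⁻¹
      = xG hF r c * (xG hF s v * (xG hF r c)⁻¹) := by group
    _ = xG hF r c * ((xG hF r c)⁻¹ * xG hF s v * wordG hF (D.commWord F r s (-c) v)) := by rw [e]
    _ = _ := by group

theorem commute_comm {r s : ℕ} {z : GL D.Idx F} (h : Commute z (xG hF s (1 : F))) :
    z * xG hF s (1 : F) = xG hF s (1 : F) * z := h.eq

theorem Pre.of_mem {H : Subgroup (GL D.Idx F)} (h1 : ∀ s < D.nroots, xG hF s (1 : F) ∈ H)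
    {g : GL D.Idx F} (hg : g ∈ H) : Pre hF H g :=
  fun s hs => H.mul_mem (H.mul_mem hg (h1 s hs)) (H.inv_mem hg)

theorem Pre.mul_left {H : Subgroup (GL D.Idx F)} {a g : GL D.Idx F} (ha : a ∈ H)
    (hg : Pre hF H g) : Pre hF H (a * g) := fun s hs => by
  rw [show a * g * xG hF s 1 * (a * g)⁻¹ = a * (g * xG hF s 1 * g⁻¹) * a⁻¹ by group]
  exact H.mul_mem (H.mul_mem ha (hg s hs)) (H.inv_mem ha)

theorem Step.lt {p r s u : ℕ} {N : ℤ} (st : Step D p r s u N) (h : r + 1 ≠ D.nroots) : r < u := by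
  obtain ⟨pre, post, j, e, -⟩ := st.head
  exact (hF.comm_pos r s st.lt_r st.lt_s st.pos_r (st.side.resolve_right h) (u, N, 1, j)
    (by rw [e]; simp)).1

/-- The transfer of a leading parameter, in its basic form. -/
theorem transfer_core {H : Subgroup (GL D.Idx F)} (h1 : ∀ s < D.nroots, xG hF s (1 : F) ∈ H)
    {r s u : ℕ} {N : ℤ} (hr : r < D.nroots) (hs' : s < D.nroots) (hu : u < D.nroots)
    (hrp : half D ≤ r) (hup : half D ≤ u) (hne : s ≠ r) (hnn : s ≠ D.neg r)
    (hhead : ∃ pre post j, D.commTerms r s = pre ++ (u, N, 1, j) :: post ∧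
      ∀ c ∈ pre ++ post, u < c.1) {z h : GL D.Idx F} {c : F}
    (hside : (half D ≤ s ∧ ∀ k, r < k → k < D.nroots → k ≠ s →
      ∀ c ∈ D.commTerms k s, u < c.1) ∨ h = 1)
    (hz : z ∈ D.posUnipotent F) (hzc : Commute z (xG hF s (1 : F))) (hh : h ∈ RF hF (r + 1))
    (hg : (z * (xG hF r c * h)) * xG hF s 1 * (z * (xG hF r c * h))⁻¹ ∈ H) :
    ∃ h' ∈ RF hF (u + 1), xG hF u ((N : F) * c) * h' ∈ H := by
  set x := xG hF s (1 : F) with hx
  have hu1 : half D ≤ u + 1 := le_trans hup (Nat.le_succ _)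
  -- the part coming from the higher terms
  have hE : h * x * h⁻¹ * x⁻¹ ∈ RF hF (u + 1) := by
    rcases hside with ⟨hs, habove⟩ | hs
    · have hxU : x ∈ D.posUnipotent F := mem_posUnipotent_of hF hs' hs 1
      have key : ∀ g ∈ RF hF (r + 1) (F := F),
          g ∈ D.posUnipotent F ∧ g * x * g⁻¹ * x⁻¹ ∈ RF hF (u + 1) := by
        intro g hg
        induction hg using Subgroup.closure_induction with
        | mem g hg =>
          obtain ⟨k, t, hk, hkn, rfl⟩ := hg
          have hkp : half D ≤ k := by have := hrp; omega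
          refine ⟨mem_posUnipotent_of hF hkn hkp t, ?_⟩
          by_cases hks : k = s
          · subst hks
            rw [hx, xG_inv, xG_inv, xG_mul, xG_mul, xG_mul,
              show t + 1 + -t + -1 = (0 : F) by ring, xG_zero]
            exact one_mem _
          have hnk : s ≠ D.neg k := by
            have := (neg_lt_half_iff hF hkn).2 hkp; omega
          rw [hx, conj_word hF hkn hs' (Ne.symm hks) hnk]
          refine conj_mem_RF hF hu1 hxU (wordG_mem hF fun q hq => ?_)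
          obtain ⟨e, he, rfl⟩ := List.mem_map.1 hq
          have h3 := habove k (by omega) hkn hks e he
          exact xG_mem_RF hF h3 (hF.comm_lt k s hkn hs' e he) _
        | one => exact ⟨one_mem _, by simp⟩
        | mul a b _ _ iha ihb =>
          refine ⟨mul_mem iha.1 ihb.1, ?_⟩
          rw [show a * b * x * (a * b)⁻¹ * x⁻¹ =
            a * (b * x * b⁻¹ * x⁻¹) * a⁻¹ * (a * x * a⁻¹ * x⁻¹) by group]
          exact mul_mem (conj_mem_RF hF hu1 iha.1 ihb.2) iha.2
        | inv a _ iha =>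
          refine ⟨inv_mem iha.1, ?_⟩
          rw [show a⁻¹ * x * a⁻¹⁻¹ * x⁻¹ = a⁻¹ * (a * x * a⁻¹ * x⁻¹)⁻¹ * a by group]
          exact conj_mem_RF' hF hu1 iha.1 (inv_mem iha.2)
      exact (key h hh).2
    · rw [hs]; simp
  obtain ⟨pre, rest, j, hterms, hrest⟩ := hhead
  set E := h * x * h⁻¹ * x⁻¹ with hEdef
  set W' := wordG hF (rest.map fun e => (e.1, (e.2.1 : F) * (-(-c)) ^ e.2.2.1 * (1 : F) ^ e.2.2.2))
    with hW'
  set W₀ := wordG hF (pre.map fun e => (e.1, (e.2.1 : F) * (-(-c)) ^ e.2.2.1 * (1 : F) ^ e.2.2.2))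
    with hW₀
  set xu := xG hF u ((N : F) * c) with hxu
  have hxuU : xu ∈ D.posUnipotent F := mem_posUnipotent_of hF hu hup _
  set W₁ := xu⁻¹ * W₀ * xu * W' with hW₁
  have hW : wordG hF (D.commWord F r s (-c) 1) = xu * W₁ := by
    rw [ChevalleyDatum.commWord, hterms, List.map_append, wordG_append, List.map_cons, wordG_cons,
      ← hW', ← hW₀, hW₁, show xG hF (u, N, 1, j).1 ((((u, N, 1, j).2.1 : ℤ) : F) *
        (-(-c)) ^ (u, N, 1, j).2.2.1 * (1 : F) ^ (u, N, 1, j).2.2.2) = xu by rw [hxu]; simp]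
    group
  have hword : ∀ L : List (ℕ × ℤ × ℕ × ℕ), (∀ e ∈ L, e ∈ pre ++ rest) →
      wordG hF (L.map fun e => (e.1, (e.2.1 : F) * (-(-c)) ^ e.2.2.1 * (1 : F) ^ e.2.2.2)) ∈
        RF hF (u + 1) := fun L hL => wordG_mem hF fun q hq => by
    obtain ⟨e, he, rfl⟩ := List.mem_map.1 hq
    refine xG_mem_RF hF (hrest e (hL e he)) (hF.comm_lt r s hr hs' e ?_) _
    rw [hterms]
    rcases List.mem_append.1 (hL e he) with h' | h'
    · exact List.mem_append_left _ h'
    · exact List.mem_append_right _ (List.mem_cons_of_mem _ h')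
  have hW₁m : W₁ ∈ RF hF (u + 1) := mul_mem
    (conj_mem_RF' hF hu1 hxuU (hword pre fun e he => List.mem_append_left _ he))
    (hword rest fun e he => List.mem_append_right _ he)
  have hxr := mem_posUnipotent_of hF hr hrp c
  set E' := x⁻¹ * (xG hF r c * E * (xG hF r c)⁻¹) * x with hE'
  have hE'm : E' ∈ RF hF (u + 1) := by
    rcases hside with ⟨hs, -⟩ | hs
    · exact conj_mem_RF' hF hu1 (mem_posUnipotent_of hF hs' hs 1) (conj_mem_RF hF hu1 hxr hE)
    · rw [hE', hEdef, hs]; simp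
  have hcalc : (z * (xG hF r c * h)) * x * (z * (xG hF r c * h))⁻¹ =
      x * (z * (E' * (xu * W₁)) * z⁻¹) := by
    have e1 : xG hF r c * x * (xG hF r c)⁻¹ = x * (xu * W₁) := by
      rw [← hW]; exact conj_word hF hr hs' hne hnn c 1
    have e2 : x * (xu * W₁) = xG hF r c * x * (xG hF r c)⁻¹ := e1.symm
    calc (z * (xG hF r c * h)) * x * (z * (xG hF r c * h))⁻¹
        = z * ((xG hF r c * E * (xG hF r c)⁻¹) * (xG hF r c * x * (xG hF r c)⁻¹)) * z⁻¹ := by
          rw [hEdef]; group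
      _ = z * (x * (E' * (xu * W₁))) * z⁻¹ := by
          rw [e1, hE']; group
      _ = (z * x) * (E' * (xu * W₁)) * z⁻¹ := by group
      _ = (x * z) * (E' * (xu * W₁)) * z⁻¹ := by rw [hzc.eq]
      _ = _ := by group
  rw [hcalc] at hg
  have hX : z * (E' * (xu * W₁)) * z⁻¹ ∈ H := by
    have := H.mul_mem (H.inv_mem (h1 s hs')) hg
    rwa [← hx, inv_mul_cancel_left] at this
  have hl := conj_lead hF hu hup hz ((N : F) * c)
  set e := z * xu * z⁻¹ * xu⁻¹ with he
  refine ⟨xu⁻¹ * (z * E' * z⁻¹ * e) * xu * (z * W₁ * z⁻¹), ?_, ?_⟩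
  · exact mul_mem (conj_mem_RF' hF hu1 hxuU (mul_mem (conj_mem_RF hF hu1 hz hE'm) hl))
      (conj_mem_RF hF hu1 hz hW₁m)
  · rw [show xu * (xu⁻¹ * (z * E' * z⁻¹ * e) * xu * (z * W₁ * z⁻¹)) =
      z * (E' * (xu * W₁)) * z⁻¹ by rw [he]; group]
    exact hX

/-- The transfer of a leading parameter. -/
theorem transfer {H : Subgroup (GL D.Idx F)} (h1 : ∀ s < D.nroots, xG hF s (1 : F) ∈ H)
    {p r s u : ℕ} {N : ℤ} (st : Step D p r s u N) {z h : GL D.Idx F} {c : F}
    (hz : z ∈ D.posUnipotent F) (hzc : Commute z (xG hF s (1 : F))) (hh : h ∈ RF hF (r + 1))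
    (hg : (z * (xG hF r c * h)) * xG hF s 1 * (z * (xG hF r c * h))⁻¹ ∈ H) :
    ∃ h' ∈ RF hF (u + 1), xG hF u ((N : F) * c) * h' ∈ H := by
  refine transfer_core hF h1 st.lt_r st.lt_s st.lt_u st.pos_r st.pos_u st.ne st.ne_neg st.head
    (st.side.imp (fun hs => ⟨hs, st.above⟩) fun e => ?_) hz hzc hh hg
  rwa [RF_top hF (by omega), Subgroup.mem_bot] at hh

theorem transfer' {H : Subgroup (GL D.Idx F)} (h1 : ∀ s < D.nroots, xG hF s (1 : F) ∈ H)
    {p r s u : ℕ} {N : ℤ} (st : Step D p r s u N) {h : GL D.Idx F} {c : F} {S : AddSubgroup F}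
    (hS : LeadLe hF H u S) (hh : h ∈ RF hF (r + 1)) (hg : Pre hF H (xG hF r c * h)) :
    (N : F) * c ∈ S := by
  obtain ⟨h', hh', hm⟩ := transfer hF h1 st (z := 1) (one_mem _) (Commute.one_left _) hh
    (by rw [one_mul]; exact hg s st.lt_s)
  exact hS _ h' hh' hm

/-- Integers prime to the characteristic act invertibly on additive subgroups. -/
theorem mem_of_unit_mul (p : ℕ) [Fact p.Prime] [CharP F p] {N : ℤ} (hN : ¬ (p : ℤ) ∣ N)
    {S : AddSubgroup F} {c : F} (h : (N : F) * c ∈ S) : c ∈ S := by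
  obtain ⟨a, b, hab⟩ := ((Nat.prime_iff_prime_int.1 (Fact.out : p.Prime)).coprime_iff_not_dvd.2 hN)
  have e := congrArg (fun z : ℤ => (z : F)) hab
  push_cast at e
  rw [CharP.cast_eq_zero, mul_zero, zero_add] at e
  have h2 := S.zsmul_mem h b
  rwa [zsmul_eq_mul, ← mul_assoc, e, one_mul] at h2

theorem mul_int_mem {S : AddSubgroup F} {c : F} (N : ℤ) (h : c ∈ S) : (N : F) * c ∈ S := by
  have h2 := S.zsmul_mem h N
  rwa [zsmul_eq_mul] at h2

/-- An increasing product in `H` lies in `H` factor by factor. -/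
theorem strip {H : Subgroup (GL D.Idx F)} : ∀ (L : List (ℕ × F)),
    (∀ q ∈ L, q.1 < D.nroots ∧ half D ≤ q.1 ∧ LeadLe hF H q.1 (A hF H q.1)) →
    L.Pairwise (fun a b => a.1 < b.1) → wordG hF L ∈ H → ∀ q ∈ L, q.2 ∈ A hF H q.1 := by
  intro L
  induction L with
  | nil => intro _ _ _ q hq; simp at hq
  | cons a L ih =>
    intro hL hp hm q hq
    rw [List.pairwise_cons] at hp
    rw [wordG_cons] at hm
    have hrest : wordG hF L ∈ RF hF (a.1 + 1) := wordG_mem hF fun b hb =>
      xG_mem_RF hF (hp.1 b hb) (hL b (List.mem_cons_of_mem _ hb)).1 _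
    have ha := (hL a List.mem_cons_self).2.2 a.2 _ hrest hm
    rcases List.mem_cons.1 hq with rfl | hq
    · exact ha
    · refine ih (fun b hb => hL b (List.mem_cons_of_mem _ hb)) hp.2 ?_ q hq
      have := H.mul_mem (H.inv_mem ((mem_A hF).1 ha)) hm
      rwa [inv_mul_cancel_left] at this

/-- The parameters are invariant under the fundamental reflections. -/
theorem A_refl {H : Subgroup (GL D.Idx F)} (h1 : ∀ s < D.nroots, xG hF s (1 : F) ∈ H) {i r : ℕ}
    (hi : i < D.rank) (hr : r < D.nroots) : A hF H (D.reflectRoot i r) = A hF H r := by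
  have hn : (nS hF i : GL D.Idx F) ∈ H := by
    have hs := hF.simple_lt i hi
    refine H.mul_mem (H.mul_mem (h1 _ hs) ?_) (h1 _ hs)
    rw [inv_one, ← xG_inv]
    exact H.inv_mem (h1 _ (neg_lt hF hs))
  have key : ∀ r, r < D.nroots → A hF H r ≤ A hF H (D.reflectRoot i r) := by
    intro r hr t ht
    have hmem : xG hF (D.reflectRoot i r) ((etaN hF i r : F) * t) ∈ H := by
      have e := nS_conj_x hF hi hr t
      rw [show xG hF (D.reflectRoot i r) ((etaN hF i r : F) * t) =
        nS hF i * xG hF r t * (nS hF i)⁻¹ by rw [e, mul_inv_cancel_right]]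
      exact H.mul_mem (H.mul_mem hn ht) (H.inv_mem hn)
    rcases (etaN_spec hF hi).1 r hr with e | e <;> rw [e] at hmem <;> push_cast at hmem
    · rwa [one_mul] at hmem
    · rw [neg_one_mul] at hmem
      exact neg_mem_iff.1 (show -t ∈ A hF H (D.reflectRoot i r) from hmem)
  refine le_antisymm ?_ (key r hr)
  have := key _ (hF.refl_lt i hi r hr)
  rwa [hF.refl_refl i hi r hr] at this

/-- Roots with the same representative have the same parameters. -/
theorem A_follow {C : Cert} (hC : Checks D C) {H : Subgroup (GL D.Idx F)}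
    (h1 : ∀ s < D.nroots, xG hF s (1 : F) ∈ H) :
    ∀ k r, r < D.nroots → A hF H (C.follow k r) = A hF H r := by
  intro k
  induction k with
  | zero => intro r _; rfl
  | succ k ih =>
    intro r hr
    rw [show C.follow (k + 1) r =
      force r fun r => cond (C.isRep r) r (C.follow k (C.cW (C.stepI r) r)) from rfl, force_eq]
    cases hrep : C.isRep r with
    | true => rfl
    | false =>
      obtain ⟨hi, -⟩ := stepI_spec hC hr hrep
      obtain ⟨hw, hwlt, -⟩ := refl_split hC hi hr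
      rw [cond_false, ih _ hwlt, ← hw, A_refl hF h1 hi hr]

end Cfsg.Agent.Overgroup
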