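import Cfsg.Agent.Overgroup.Level

/-!
The field of parameters for type `B₂` in characteristic two.
-/

set_option autoImplicit false
set_option linter.unusedSectionVars false

namespace Cfsg.Agent.Overgroup

open Cfsg.Lie Cfsg.Agent.Chev
open scoped MatrixGroups

universe u

theorem b2_terms : chevB2.commTerms 6 3 = [(5, -1, 1, 1), (7, 1, 2, 1)] ∧
    chevB2.commTerms 7 2 = [(6, -1, 1, 1), (4, -1, 1, 2)] ∧
    chevB2.commTerms 6 2 = [(4, 2, 1, 1)] ∧ chevB2.commTerms 5 4 = [(6, -1, 1, 1), (7, -1, 2, 1)] ∧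
    chevB2.commTerms 6 5 = [(7, -2, 1, 1)] ∧
    commutesChk chevB2 7 3 = true ∧ commutesChk chevB2 7 6 = true ∧ commutesChk chevB2 7 4 = true ∧
    commutesChk chevB2 7 5 = true ∧ commutesChk chevB2 6 4 = true ∧
    chevB2.reflectRoot 1 5 = 6 ∧ chevB2.reflectRoot 1 7 = 7 ∧ chevB2.reflectRoot 0 4 = 7 ∧
    chevB2.reflectRoot 0 6 = 6 ∧ chevB2.reflectRoot 1 6 = 5 ∧ chevB2.reflectRoot 0 7 = 4 ∧
    chevB2.nroots = 8 ∧ chevB2.rank = 2 ∧ half chevB2 = 4 ∧
    chevB2.neg 6 = 1 ∧ chevB2.neg 7 = 0 ∧ chevB2.neg 5 = 2 := by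
  refine ⟨?_, ?_, ?_, ?_, ?_, ?_, ?_, ?_, ?_, ?_, ?_, ?_, ?_, ?_, ?_, ?_, ?_, ?_, ?_, ?_, ?_, ?_⟩ <;>
    decide +kernel

theorem b2_chk : chkTwo chevB2 b2Cert 6 = true ∧ lngB chevB2 b2Cert 4 = true ∧
    okStep chevB2 b2Cert 2 4 5 = true ∧ okStep chevB2 b2Cert 2 5 4 = true ∧
    tgt chevB2 b2Cert 4 5 = 6 ∧ tgt chevB2 b2Cert 5 4 = 6 := by
  decide +kernel

variable {F : Type u} [Field F] [Finite F] [CharP F 2]

theorem level_b2_two {H : Subgroup (GL chevB2.Idx F)}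
    (h1 : ∀ s < chevB2.nroots, xG facts_chevB2 s (1 : F) ∈ H) :
    ∃ k : Subfield F, IsLevel facts_chevB2 H k := by
  have hF : Facts.{u} chevB2 := facts_chevB2
  haveI : Fact (Nat.Prime 2) := ⟨Nat.prime_two⟩
  obtain ⟨t63, t72, t62, t54, t65, c73, c76, c74, c75, c64, r15, r17, r04, r06, r16, r07, hn, hrk,
    hhalf, n6, n7, n5⟩ := b2_terms
  obtain ⟨hTwo, hl4, ok45, ok54, g45, g54⟩ := b2_chk
  have hlt : ∀ {r}, r < 8 → r < chevB2.nroots := fun h => by rw [hn]; exact h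
  have sgn : ∀ x : F, -x = x := CharTwo.neg_eq
  have two : (2 : F) = 0 := CharTwo.two_eq_zero
  set X : ℕ → F → GL chevB2.Idx F := fun r t => xG hF r t with hX
  have com : ∀ {a b : ℕ}, a < 8 → b < 8 → commutesChk chevB2 a b = true → ∀ t v : F,
      Commute (X b v) (X a t) := fun ha hb h t v => commute_of_chk hF (hlt ha) (hlt hb) h t v
  have c65 : ∀ t v : F, Commute (X 5 v) (X 6 t) := fun t v => by
    have e := conj_word hF (r := 6) (s := 5) (hlt (by norm_num)) (hlt (by norm_num))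
      (by norm_num) (by rw [n6]; norm_num) t v
    rw [ChevalleyDatum.commWord, t65, List.map_cons, List.map_nil, wordG_cons,
      show wordG hF ([] : List (ℕ × F)) = 1 from rfl, mul_one] at e
    simp [two, xG_zero, mul_inv_eq_iff_eq_mul] at e
    exact e.symm
  have c62 : ∀ t v : F, Commute (X 2 v) (X 6 t) := fun t v => by
    have e := conj_word hF (r := 6) (s := 2) (hlt (by norm_num)) (hlt (by norm_num))
      (by norm_num) (by rw [n6]; norm_num) t v
    rw [ChevalleyDatum.commWord, t62, List.map_cons, List.map_nil, wordG_cons,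
      show wordG hF ([] : List (ℕ × F)) = 1 from rfl, mul_one] at e
    simp [two, xG_zero, mul_inv_eq_iff_eq_mul] at e
    exact e.symm
  have hn' : ∀ i < 2, (nS hF i : GL chevB2.Idx F) ∈ H := fun i hi => by
    have hi' : i < chevB2.rank := by rw [hrk]; exact hi
    have hs := hF.simple_lt i hi'
    refine H.mul_mem (H.mul_mem (h1 _ hs) ?_) (h1 _ hs)
    rw [inv_one, ← xG_inv]
    exact H.inv_mem (h1 _ (neg_lt hF hs))
  have nconj : ∀ i < 2, ∀ r < 8, ∀ t : F,
      nS hF i * X r t * (nS hF i)⁻¹ = X (chevB2.reflectRoot i r) t := fun i hi r hr t => by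
    have hi' : i < chevB2.rank := by rw [hrk]; exact hi
    show nS hF i * xG hF r t * _ = xG hF _ t
    rw [nS_conj_x hF hi' (hlt hr), mul_inv_cancel_right]
    rcases (etaN_spec hF hi').1 r (hlt hr) with e | e <;> simp [e, sgn]
  -- pairs of parameters at the roots 6 and 7
  set P : F → F → Prop := fun a b => X 6 a * X 7 b ∈ H with hP
  have Padd : ∀ {a b a' b'}, P a b → P a' b' → P (a + a') (b + b') := fun {a b a' b'} h h' => by
    have := H.mul_mem h h'
    show X 6 (a + a') * X 7 (b + b') ∈ H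
    rw [← show X 6 a * X 6 a' = X 6 (a + a') from xG_mul hF 6 a a',
      ← show X 7 b * X 7 b' = X 7 (b + b') from xG_mul hF 7 b b']
    rwa [mul_assoc, ← mul_assoc (X 7 b), ← ((com (by norm_num) (by norm_num) c76) b a').eq,
      mul_assoc, ← mul_assoc] at this
  have alpha : ∀ {a b}, Pre hF H (X 6 a * X 7 b) → P a (a ^ 2) := fun {a b} hp => by
    have e : X 6 a * X 7 b * X 3 1 * (X 6 a * X 7 b)⁻¹ = X 3 1 * (X 5 a * X 7 (a ^ 2)) := by
      have e1 := conj_word hF (r := 6) (s := 3) (hlt (by norm_num)) (hlt (by norm_num))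
        (by norm_num) (by rw [n6]; norm_num) a 1
      rw [ChevalleyDatum.commWord, t63, List.map_cons, List.map_cons, List.map_nil, wordG_cons,
        wordG_cons, show wordG hF ([] : List (ℕ × F)) = 1 from rfl, mul_one] at e1
      simp [sgn] at e1
      rw [show X 6 a * X 7 b * X 3 1 * (X 6 a * X 7 b)⁻¹ =
        X 6 a * (X 7 b * X 3 1) * (X 7 b)⁻¹ * (X 6 a)⁻¹ by group,
        ← ((com (by norm_num) (by norm_num) c73) b 1).eq]
      simpa [mul_assoc] using e1
    have hh := hp 3 (hlt (by norm_num))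
    rw [show X 6 a * X 7 b * xG hF 3 1 * (X 6 a * X 7 b)⁻¹ = X 3 1 * (X 5 a * X 7 (a ^ 2)) from e]
      at hh
    have h2 := H.mul_mem (H.inv_mem (h1 3 (hlt (by norm_num)))) hh
    rw [show (xG facts_chevB2 3 (1 : F))⁻¹ * (X 3 1 * (X 5 a * X 7 (a ^ 2))) =
      X 5 a * X 7 (a ^ 2) from inv_mul_cancel_left _ _] at h2
    have h3 := H.mul_mem (H.mul_mem (hn' 1 (by norm_num)) h2) (H.inv_mem (hn' 1 (by norm_num)))
    rwa [show (nS hF 1 : GL chevB2.Idx F) * (X 5 a * X 7 (a ^ 2)) * (nS hF 1)⁻¹ =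
      (nS hF 1 * X 5 a * (nS hF 1)⁻¹) * (nS hF 1 * X 7 (a ^ 2) * (nS hF 1)⁻¹) by group,
      nconj 1 (by norm_num) 5 (by norm_num), nconj 1 (by norm_num) 7 (by norm_num), r15, r17] at h3
  have beta : ∀ {a b}, Pre hF H (X 6 a * X 7 b) → P b b := fun {a b} hp => by
    have e : X 6 a * X 7 b * X 2 1 * (X 6 a * X 7 b)⁻¹ = X 2 1 * (X 6 b * X 4 b) := by
      have e1 := conj_word hF (r := 7) (s := 2) (hlt (by norm_num)) (hlt (by norm_num))
        (by norm_num) (by rw [n7]; norm_num) b 1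
      rw [ChevalleyDatum.commWord, t72, List.map_cons, List.map_cons, List.map_nil, wordG_cons,
        wordG_cons, show wordG hF ([] : List (ℕ × F)) = 1 from rfl, mul_one] at e1
      simp [sgn] at e1
      rw [show X 6 a * X 7 b * X 2 1 * (X 6 a * X 7 b)⁻¹ =
        X 6 a * (X 7 b * X 2 1 * (X 7 b)⁻¹) * (X 6 a)⁻¹ by group]
      rw [show X 7 b * X 2 1 * (X 7 b)⁻¹ = X 2 1 * (X 6 b * X 4 b) by simpa [mul_assoc] using e1]
      have h6 : Commute (X 6 a) (X 2 1 * (X 6 b * X 4 b)) :=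
        ((c62 a 1).symm).mul_right ((show Commute (X 6 a) (X 6 b) from by
          show X 6 a * X 6 b = X 6 b * X 6 a
          simp only [hX, xG_mul, add_comm]).mul_right ((com (by norm_num) (by norm_num) c64) a b).symm)
      rw [h6.eq, mul_inv_cancel_right]
    have hh := hp 2 (hlt (by norm_num))
    rw [show X 6 a * X 7 b * xG hF 2 1 * (X 6 a * X 7 b)⁻¹ = X 2 1 * (X 6 b * X 4 b) from e] at hh
    have h2 := H.mul_mem (H.inv_mem (h1 2 (hlt (by norm_num)))) hh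
    rw [show (xG facts_chevB2 2 (1 : F))⁻¹ * (X 2 1 * (X 6 b * X 4 b)) = X 6 b * X 4 b from
      inv_mul_cancel_left _ _] at h2
    have h3 := H.mul_mem (H.mul_mem (hn' 0 (by norm_num)) h2) (H.inv_mem (hn' 0 (by norm_num)))
    rwa [show (nS hF 0 : GL chevB2.Idx F) * (X 6 b * X 4 b) * (nS hF 0)⁻¹ =
      (nS hF 0 * X 6 b * (nS hF 0)⁻¹) * (nS hF 0 * X 4 b * (nS hF 0)⁻¹) by group,
      nconj 0 (by norm_num) 6 (by norm_num), nconj 0 (by norm_num) 4 (by norm_num), r06, r04] at h3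
  have pre : ∀ {a b}, P a b → Pre hF H (X 6 a * X 7 b) := fun h => Pre.of_mem hF h1 h
  have gamma : ∀ {a β α' d}, P a β → P α' d → P (a * d) (a ^ 2 * d) := fun {a β α' d} h h' => by
    have u1 : X 5 a * X 7 β ∈ H := by
      have h3 := H.mul_mem (H.mul_mem (hn' 1 (by norm_num)) h) (H.inv_mem (hn' 1 (by norm_num)))
      rwa [show (nS hF 1 : GL chevB2.Idx F) * (X 6 a * X 7 β) * (nS hF 1)⁻¹ =
        (nS hF 1 * X 6 a * (nS hF 1)⁻¹) * (nS hF 1 * X 7 β * (nS hF 1)⁻¹) by group,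
        nconj 1 (by norm_num) 6 (by norm_num), nconj 1 (by norm_num) 7 (by norm_num), r16, r17] at h3
    have u2 : X 6 α' * X 4 d ∈ H := by
      have h3 := H.mul_mem (H.mul_mem (hn' 0 (by norm_num)) h') (H.inv_mem (hn' 0 (by norm_num)))
      rwa [show (nS hF 0 : GL chevB2.Idx F) * (X 6 α' * X 7 d) * (nS hF 0)⁻¹ =
        (nS hF 0 * X 6 α' * (nS hF 0)⁻¹) * (nS hF 0 * X 7 d * (nS hF 0)⁻¹) by group,
        nconj 0 (by norm_num) 6 (by norm_num), nconj 0 (by norm_num) 7 (by norm_num), r06, r07] at h3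
    have e1 := conj_word hF (r := 5) (s := 4) (hlt (by norm_num)) (hlt (by norm_num))
      (by norm_num) (by rw [n5]; norm_num) a d
    rw [ChevalleyDatum.commWord, t54, List.map_cons, List.map_cons, List.map_nil, wordG_cons,
      wordG_cons, show wordG hF ([] : List (ℕ × F)) = 1 from rfl, mul_one] at e1
    simp [sgn] at e1
    have e : (X 5 a * X 7 β) * (X 6 α' * X 4 d) * (X 5 a * X 7 β)⁻¹ =
        (X 6 α' * X 4 d) * (X 6 (a * d) * X 7 (a ^ 2 * d)) := by
      have h7 : Commute (X 7 β) (X 6 α' * X 4 d) :=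
        (((com (by norm_num) (by norm_num) c76) β α').symm).mul_right
          (((com (by norm_num) (by norm_num) c74) β d).symm)
      rw [show (X 5 a * X 7 β) * (X 6 α' * X 4 d) * (X 5 a * X 7 β)⁻¹ =
        X 5 a * ((X 7 β) * (X 6 α' * X 4 d) * (X 7 β)⁻¹) * (X 5 a)⁻¹ by group, h7.eq,
        mul_inv_cancel_right,
        show X 5 a * (X 6 α' * X 4 d) * (X 5 a)⁻¹ =
          (X 5 a * X 6 α' * (X 5 a)⁻¹) * (X 5 a * X 4 d * (X 5 a)⁻¹) by group,
        (c65 α' a).eq, mul_inv_cancel_right]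
      simpa [mul_assoc] using e1
    have h4 := H.mul_mem (H.inv_mem u2) (H.mul_mem (H.mul_mem u1 u2) (H.inv_mem u1))
    rwa [e, inv_mul_cancel_left] at h4
  -- the field
  let L : AddSubgroup F :=
    { carrier := {b | ∃ a, P a b}
      zero_mem' := ⟨0, by show X 6 0 * X 7 0 ∈ H; simp only [hX, xG_zero, mul_one]; exact H.one_mem⟩
      add_mem' := fun {x y} ⟨a, ha⟩ ⟨a', ha'⟩ => ⟨a + a', Padd ha ha'⟩
      neg_mem' := fun {x} h => by rw [sgn]; exact h }
  have hdiag : ∀ {b}, b ∈ L → P b b ∧ P b (b ^ 2) := fun {b} ⟨a, ha⟩ =>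
    ⟨beta (pre ha), alpha (pre (beta (pre ha)))⟩
  have hsq : ∀ {b}, b ∈ L → b ^ 2 ∈ L := fun h => ⟨_, (hdiag h).2⟩
  have hroot : ∀ x ∈ L, ∃ l ∈ L, l ^ 2 = x := by
    let f : L → L := fun x => ⟨(x : F) ^ 2, hsq x.2⟩
    have hf : Function.Injective f := fun x y e => Subtype.ext
      (frobenius_inj F 2 (by simpa [frobenius_def, f] using congrArg Subtype.val e))
    intro x hx
    obtain ⟨l, hl⟩ := Finite.injective_iff_surjective.1 hf ⟨x, hx⟩
    exact ⟨l, l.2, congrArg Subtype.val hl⟩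
  have hfst : ∀ {a b}, P a b → a ∈ L := fun {a b} h => by
    obtain ⟨l, hl, e⟩ := hroot _ (⟨a, alpha (pre h)⟩ : a ^ 2 ∈ L)
    rwa [← frobenius_inj F 2 (show frobenius F 2 l = frobenius F 2 a by simpa [frobenius_def] using e)]
  have h70 : ∀ {b}, P 0 b → b ∈ A hF H 7 := fun {b} h => by
    rw [mem_A hF]; simpa [hP, hX, xG_zero] using h
  have hone : (1 : F) ∈ L := ⟨0, by
    show X 6 0 * X 7 1 ∈ H
    simp only [hX, xG_zero, one_mul]; exact h1 7 (hlt (by norm_num))⟩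
  have hmulL : ∀ x ∈ L, ∀ y ∈ L, x * y ∈ L := fun x hx y hy => by
    obtain ⟨l, hl, rfl⟩ := hroot x hx
    exact ⟨l * y, gamma (hdiag hl).1 (hdiag hy).1⟩
  set k := subfieldOf L hone hmulL with hk
  have hA7 : ∀ z, z ∈ A hF H 7 ↔ z ∈ L := by
    refine fun z => ⟨fun hz => ⟨0, ?_⟩, fun hz => ?_⟩
    · show X 6 0 * X 7 z ∈ H
      simp only [hX, xG_zero, one_mul]; exact hz
    have key : ∀ a ∈ L, ∀ b ∈ L, a ^ 2 * (b + b ^ 2) ∈ A hF H 7 := fun a ha b hb => by
      have g1 := gamma (hdiag ha).1 (hdiag hb).1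
      have := Padd g1 (alpha (pre g1))
      rw [CharTwo.add_self_eq_zero, mul_pow, ← mul_add] at this
      exact h70 this
    by_cases hall : ∀ b ∈ L, b + b ^ 2 = 0
    · have := hall z hz
      rw [show z + z ^ 2 = z * (1 + z) by ring] at this
      rcases mul_eq_zero.1 this with e | e
      · rw [e]; exact zero_mem _
      · rw [show z = 1 by rw [← sgn 1]; linear_combination e]
        exact (mem_A hF).2 (h1 7 (hlt (by norm_num)))
    · simp only [not_forall] at hall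
      obtain ⟨b, hb, hne⟩ := hall
      have he : b + b ^ 2 ∈ k := add_mem hb (hsq hb)
      obtain ⟨a, ha, e⟩ := hroot (z * (b + b ^ 2)⁻¹)
        (show z * (b + b ^ 2)⁻¹ ∈ k from mul_mem (show z ∈ k from hz) (inv_mem he))
      have := key a ha b hb
      rwa [e, inv_mul_cancel_right₀ hne] at this
  have hA6 : ∀ z, z ∈ A hF H 6 ↔ z ∈ L := by
    refine fun z => ⟨fun hz => hfst (b := 0) ?_, fun hz => ?_⟩
    · show X 6 z * X 7 0 ∈ H
      simp only [hX, xG_zero, mul_one]; exact hz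
    have h7 : X 7 (z ^ 2) ∈ H := (hA7 _).2 (hsq hz)
    have := H.mul_mem (hdiag hz).2 (H.inv_mem h7)
    rw [mem_A hF]
    simpa [hX] using this
  have h67 : ∀ {a b}, a ∈ L → b ∈ L → P a b := fun ha hb =>
    H.mul_mem ((hA6 _).2 ha) ((hA7 _).2 hb)
  have hall : ∀ r < chevB2.nroots, ∀ t, xG hF r t ∈ H ↔ t ∈ k := fun r hr t => by
    rw [← mem_A hF, hk, mem_subfieldOf]
    cases hl : lngB chevB2 b2Cert r with
    | true => rw [A_long hF h1 b2_checks hr hl, hn]; exact hA7 t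
    | false => rw [A_short hF h1 b2_checks hTwo hr hl]; exact hA6 t
  have hsplit : ∀ {h : GL chevB2.Idx F}, h ∈ RF hF 7 → ∃ b, h = X 7 b := fun hh => by
    obtain ⟨b, h', hh', rfl⟩ := exists_head hF (k := 7) (by rw [hhalf]; norm_num) (hlt (by norm_num)) hh
    rw [RF_top hF (by rw [hn]), Subgroup.mem_bot] at hh'
    exact ⟨b, by rw [hh', mul_one]⟩
  obtain ⟨N4, st4⟩ := step_of_chk b2_checks (Or.inl rfl : Stands 2 2) (hlt (by norm_num : 4 < 8))
    (by rw [hhalf]) (hlt (by norm_num : 5 < 8)) ok45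
  obtain ⟨N5, st5⟩ := step_of_chk b2_checks (Or.inl rfl : Stands 2 2) (hlt (by norm_num : 5 < 8))
    (by rw [hhalf]; norm_num) (hlt (by norm_num : 4 < 8)) ok54
  rw [g45] at st4
  rw [g54] at st5
  have lead6 : LeadLe hF H 6 k.toAddSubgroup := fun c h hh hm => by
    obtain ⟨b, rfl⟩ := hsplit hh
    exact hfst (b := b) hm
  have lead : ∀ r < chevB2.nroots, half chevB2 ≤ r → LeadLe hF H r k.toAddSubgroup := by
    intro r hr hp c h hh hm
    rw [hn] at hr; rw [hhalf] at hp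
    interval_cases r
    · exact mem_of_unit_mul hF 2 st4.unit (transfer' hF h1 st4 lead6 hh (Pre.of_mem hF h1 hm))
    · exact mem_of_unit_mul hF 2 st5.unit (transfer' hF h1 st5 lead6 hh (Pre.of_mem hF h1 hm))
    · exact lead6 c h hh hm
    · rw [RF_top hF (by rw [hn]), Subgroup.mem_bot] at hh
      subst hh
      rw [mul_one] at hm
      exact (hall 7 (hlt (by norm_num)) c).1 hm
  refine ⟨k, hall, lead, fun g hg hp => ?_⟩
  rw [posUnipotent_eq hF, hhalf] at hg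
  obtain ⟨a4, g5, hg5, rfl⟩ := exists_head hF (k := 4) (by rw [hhalf]) (hlt (by norm_num)) hg
  have hx4 : X 4 a4 ∈ H := (hall 4 (hlt (by norm_num)) a4).2
    (mem_of_unit_mul hF 2 st4.unit (transfer' hF h1 st4 lead6 hg5 hp))
  have hp5 := Pre.mul_left hF (H.inv_mem hx4) hp
  rw [inv_mul_cancel_left] at hp5
  refine H.mul_mem hx4 ?_
  obtain ⟨a5, g6, hg6, rfl⟩ := exists_head hF (k := 5) (by rw [hhalf]; norm_num) (hlt (by norm_num)) hg5
  have hx5 : X 5 a5 ∈ H := (hall 5 (hlt (by norm_num)) a5).2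
    (mem_of_unit_mul hF 2 st5.unit (transfer' hF h1 st5 lead6 hg6 hp5))
  have hp6 := Pre.mul_left hF (H.inv_mem hx5) hp5
  rw [inv_mul_cancel_left] at hp6
  refine H.mul_mem hx5 ?_
  obtain ⟨a6, g7, hg7, rfl⟩ := exists_head hF (k := 6) (by rw [hhalf]; norm_num) (hlt (by norm_num)) hg6
  obtain ⟨b, rfl⟩ := hsplit hg7
  exact h67 (hfst (alpha hp6)) (hfst (beta hp6))

end Cfsg.Agent.Overgroup
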