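import Cfsg.Agent.Overgroup.Basic
import Cfsg.Agent.Chev.All

/-!
Kernel checks of the commutator steps used for overgroups.
-/

set_option autoImplicit false
set_option linter.unusedSectionVars false

namespace Cfsg.Agent.Overgroup

open Cfsg.Lie Cfsg.Agent.Chev

universe u

variable (D : ChevalleyDatum) (C : Cert)

/-- Nonzero, below five and prime to `q`. -/
noncomputable def unitQ (q : ℕ) (N : ℤ) : Bool :=
  Nat.blt N.natAbs 5 && !Nat.beq (Nat.mod N.natAbs q) 0

/-- The root lies in the orbit of the last root. -/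
noncomputable def lngB (r : ℕ) : Bool :=
  Nat.beq (C.follow D.nroots r) (C.follow D.nroots (D.nroots - 1))

/-- The lowest target of the commutator of `r` and `s`. -/
noncomputable def tgt (r s : ℕ) : ℕ :=
  (C.cTerms D r s).foldr (fun a m => cond (Nat.blt a.1 m) a.1 m) D.nroots

/-- The term of lowest target is unique, linear, and has a unit coefficient. -/
noncomputable def headOk (q r s : ℕ) : Bool :=
  force (tgt D C r s) fun m =>
    ((C.cTerms D r s).any fun a => Nat.beq a.1 m && Nat.ble (half D) a.1 && unitQ q a.2.1 &&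
      Nat.beq a.2.2.1 1) && Nat.beq ((C.cTerms D r s).countP fun a => Nat.beq a.1 m) 1

/-- The check of a `Step`. -/
noncomputable def okStep (q r s : ℕ) : Bool :=
  headOk D C q r s && (Nat.ble (half D) s || Nat.beq (r + 1) D.nroots) &&
    allBelow (fun k => Nat.ble k r || Nat.beq k s ||
      (C.cTerms D k s).all fun b => Nat.blt (tgt D C r s) b.1) D.nroots

/-- Every positive root has a step. -/
noncomputable def chkAllSteps (q : ℕ) : Bool :=
  allBelow (fun r => Nat.blt r (half D) || (List.range D.nroots).any (okStep D C q r)) D.nroots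

/-- Every root is in the orbit of the last root or in that of the positive root `S`. -/
noncomputable def chkTwo (S : ℕ) : Bool :=
  Nat.ble (half D) S && Nat.blt S D.nroots &&
    allBelow (fun r => lngB D C r || Nat.beq (C.follow D.nroots r) (C.follow D.nroots S)) D.nroots

/-- Three long roots in a subsystem of type `A₂`. -/
noncomputable def chkA2 : Bool :=
  (List.range D.nroots).any fun r => lngB D C r && (List.range D.nroots).any fun s =>
    lngB D C s && match C.cTerms D r s with
      | [a] => lngB D C a.1 && Nat.beq a.2.1.natAbs 1 && Nat.beq a.2.2.1 1 && Nat.beq a.2.2.2 1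
      | _ => false

/-- Each short root has pairing one with some long root. -/
noncomputable def chkTorus : Bool :=
  allBelow (fun r => lngB D C r || (List.range D.nroots).any fun l =>
    lngB D C l && lngB D C (negN D l) &&
      Nat.beq ((List.range D.rank).map fun j => Int.mul (C.cR l j) (C.cA j r)).sum.natAbs 1) D.nroots

/-- A pair of roots generating a subsystem of type `B₂`. -/
noncomputable def chkB2Pair : Bool :=
  (List.range D.nroots).any fun r => (List.range D.nroots).any fun s =>
    lngB D C s && match C.cTerms D r s with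
      | [a, b] => Nat.ble (half D) a.1 && Nat.blt a.1 b.1 && !lngB D C a.1 && lngB D C b.1 &&
          Nat.beq a.2.1.natAbs 1 && Nat.beq b.2.1.natAbs 1 &&
          Nat.beq a.2.2.1 1 && Nat.beq a.2.2.2 1 && Nat.beq b.2.2.2 1
      | _ => false

/-- Modulo `q` the commutator of `r` and `s` is a single linear term. -/
noncomputable def litHead (q r s : ℕ) : Bool :=
  match (C.cTerms D r s).filter fun a => !Nat.beq (Nat.mod a.2.1.natAbs q) 0 with
  | [a] => Nat.beq a.2.2.1 1 && unitQ q a.2.1
  | _ => false

/-- The steps in special characteristic, the short root `S` being a second terminal root. -/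
noncomputable def chkSpecSteps (q S : ℕ) : Bool :=
  !lngB D C S && Nat.blt (S + 1) D.nroots &&
  allBelow (fun r => Nat.blt r (half D) || Nat.beq r S ||
    ((Nat.ble r S || lngB D C r) && (List.range D.nroots).any fun s => okStep D C q r s &&
      (lngB D C (tgt D C r s) == lngB D C r) &&
      (Nat.blt r S || Nat.beq s S ||
        (!Nat.beq S (negN D s) && (C.cTerms D s S).isEmpty)))) D.nroots &&
  (List.range D.nroots).any (litHead D C q S)

/-- A long term of degree `q` in a commutator of a short and a long root. -/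
noncomputable def chkPower (q : ℕ) : Bool :=
  (List.range D.nroots).any fun r => !lngB D C r && (List.range D.nroots).any fun l =>
    lngB D C l && decide ((C.cTerms D r l).Pairwise fun a b => a.1 < b.1) &&
      ((C.cTerms D r l).all fun a => Nat.ble (half D) a.1) &&
      (C.cTerms D r l).any fun a => lngB D C a.1 && Nat.beq a.2.2.1 q && unitQ q a.2.1

variable {D C} {p q : ℕ}

/-- `q` stands for the characteristic `p` in the checks. -/
def Stands (p q : ℕ) : Prop := p = q ∨ (5 ≤ p ∧ q = 5)

theorem unit_of_unitQ (hq : Stands p q) {N : ℤ} (h : unitQ q N = true) : ¬ (p : ℤ) ∣ N := by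
  simp only [unitQ, Bool.and_eq_true, nblt_iff, Bool.not_eq_true', nbeq_false_iff] at h
  intro hd
  rw [Int.natCast_dvd] at hd
  rcases hq with rfl | ⟨h5, rfl⟩
  · exact h.2 (Nat.mod_eq_zero_of_dvd hd)
  · rcases Nat.eq_zero_or_pos N.natAbs with e | e
    · exact h.2 (by rw [e]; try rfl)
    · have := Nat.le_of_dvd e hd
      omega

variable (hC : Checks D C)
include hC

theorem ne_of_terms {r s : ℕ} (hr : r < D.nroots) (hs : s < D.nroots) {a : ℕ × ℤ × ℕ × ℕ}
    {rest : List (ℕ × ℤ × ℕ × ℕ)} (h : C.cTerms D r s = a :: rest) :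
    s ≠ r ∧ s ≠ D.neg r := by
  constructor <;> intro e
  · rw [cTerms_of_excluded hC hr hs (Or.inl e)] at h; simp at h
  · rw [cTerms_of_excluded hC hr hs (Or.inr (by rw [e, Chev.neg_eq hC hr]))] at h; simp at h

omit hC in
theorem tgt_le {r s : ℕ} {e : ℕ × ℤ × ℕ × ℕ} (he : e ∈ C.cTerms D r s) : tgt D C r s ≤ e.1 := by
  unfold tgt
  generalize C.cTerms D r s = L at he
  induction L with
  | nil => simp at he
  | cons a L ih =>
    rw [List.foldr_cons]
    set m := List.foldr (fun a m => cond (Nat.blt a.1 m) a.1 m) D.nroots L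
    rcases List.mem_cons.1 he with rfl | he
    · cases h : Nat.blt e.1 m with
      | true => exact le_rfl
      | false => rw [nblt_false_iff] at h; exact h
    · have := ih he
      cases h : Nat.blt a.1 m with
      | true => rw [nblt_iff] at h; simp only [cond_true]; omega
      | false => exact this

theorem head_of_chk (hq : Stands p q) {r s : ℕ} (hr : r < D.nroots) (hs : s < D.nroots)
    (h : headOk D C q r s = true) :
    ∃ (u : ℕ) (N : ℤ) (pre post : List (ℕ × ℤ × ℕ × ℕ)) (j : ℕ),
      tgt D C r s = u ∧ D.commTerms r s = pre ++ (u, N, 1, j) :: post ∧ u < D.nroots ∧ half D ≤ u ∧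
        s ≠ r ∧ s ≠ D.neg r ∧ ¬ (p : ℤ) ∣ N ∧ ∀ c ∈ pre ++ post, u < c.1 := by
  simp only [headOk, force_eq, Bool.and_eq_true, List.any_eq_true, nbeq_iff, nble_iff] at h
  obtain ⟨⟨⟨u, N, i, j⟩, hmem, ⟨⟨hu, hup⟩, hN⟩, hi⟩, hcount⟩ := h
  simp only at hu hup hN hi
  subst hi
  obtain ⟨pre, post, e⟩ := List.append_of_mem hmem
  obtain ⟨n1, n2⟩ : s ≠ r ∧ s ≠ D.neg r := by
    cases e' : C.cTerms D r s with
    | nil => rw [e'] at hmem; simp at hmem
    | cons a rest => exact ne_of_terms hC hr hs e'
  have e'' : D.commTerms r s = pre ++ (u, N, 1, j) :: post := by rw [commTerms_eq hC, e]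
  refine ⟨u, N, pre, post, j, hu.symm, e'', (facts.{0} hC).comm_lt r s hr hs (u, N, 1, j)
    (by rw [e'']; simp), hup, n1, n2, unit_of_unitQ hq hN, fun c hc => ?_⟩
  have hle : u ≤ c.1 := by
    rw [hu]
    refine tgt_le ?_
    rw [e]
    rcases List.mem_append.1 hc with h | h
    · exact List.mem_append_left _ h
    · exact List.mem_append_right _ (List.mem_cons_of_mem _ h)
  refine lt_of_le_of_ne hle fun hcu => ?_
  rw [e, List.countP_append, List.countP_cons, ← hu, if_pos (nbeq_iff.2 rfl)] at hcount
  have hpos : ∀ L : List (ℕ × ℤ × ℕ × ℕ), c ∈ L → 0 < L.countP fun a => Nat.beq a.1 u :=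
    fun L hL => List.countP_pos_iff.2 ⟨c, hL, nbeq_iff.2 hcu.symm⟩
  rcases List.mem_append.1 hc with h | h <;> (have := hpos _ h; omega)

theorem lit_of_chk {r s : ℕ} (hr : r < D.nroots) (hs : s < D.nroots)
    (h : litHead D C q r s = true) :
    ∃ (u : ℕ) (N : ℤ) (j : ℕ), (D.commTerms r s).filter
        (fun a => !Nat.beq (Nat.mod a.2.1.natAbs q) 0) = [(u, N, 1, j)] ∧ u < D.nroots ∧
      s ≠ r ∧ s ≠ D.neg r ∧ unitQ q N = true := by
  simp only [litHead] at h
  split at h
  · rename_i a e
    obtain ⟨u, N, i, j⟩ := a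
    simp only [Bool.and_eq_true, nbeq_iff] at h
    obtain ⟨rfl, hN⟩ := h
    have hmem : (u, N, 1, j) ∈ C.cTerms D r s :=
      (List.mem_filter.1 (by rw [e]; exact List.mem_cons_self : (u, N, 1, j) ∈ _)).1
    obtain ⟨n1, n2⟩ : s ≠ r ∧ s ≠ D.neg r := by
      cases e' : C.cTerms D r s with
      | nil => rw [e'] at hmem; simp at hmem
      | cons a rest => exact ne_of_terms hC hr hs e'
    rw [← commTerms_eq hC] at e hmem
    exact ⟨u, N, j, e, (facts.{0} hC).comm_lt r s hr hs _ hmem, n1, n2, hN⟩
  · exact absurd h Bool.false_ne_true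

theorem step_of_chk (hq : Stands p q) {r s : ℕ} (hr : r < D.nroots) (hrp : half D ≤ r)
    (hs : s < D.nroots) (h : okStep D C q r s = true) :
    ∃ N, Step D p r s (tgt D C r s) N := by
  simp only [okStep, Bool.and_eq_true, Bool.or_eq_true, nble_iff, nbeq_iff, allBelow_iff,
    List.all_eq_true, nblt_iff] at h
  obtain ⟨⟨h1, h2⟩, h3⟩ := h
  obtain ⟨u, N, pre, post, j, e, e', hu, hup, n1, n2, hN, hrest⟩ := head_of_chk hC hq hr hs h1
  rw [e] at h3 ⊢
  refine ⟨N, hr, hs, hu, hrp, hup, h2, n1, n2, hN, ⟨pre, post, j, e', hrest⟩,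
    fun k hk hkn hks c hc => ?_⟩
  rcases h3 k hkn with (h4 | h4) | h4
  · omega
  · exact absurd h4 hks
  · rw [commTerms_eq hC] at hc
    exact h4 c hc

end Cfsg.Agent.Overgroup
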