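import Cfsg.Agent.Overgroup.Special
import Cfsg.Agent.Overgroup.B2Two
import Cfsg.Agent.Overgroup.Data.G2
import Cfsg.Agent.Overgroup.Data.B2
import Cfsg.Agent.Overgroup.Data.D4
import Cfsg.Agent.Overgroup.Data.F4
import Cfsg.Agent.Overgroup.Data.E6
import Cfsg.Agent.Overgroup.Data.E7
import Cfsg.Agent.Overgroup.Data.E8

/-!
The field of parameters in all types.
-/

set_option autoImplicit false

namespace Cfsg.Agent.Overgroup

open Cfsg.Lie Cfsg.Agent.Chev

universe u

theorem stands_cases {p : ℕ} (hp : p.Prime) : p = 2 ∨ p = 3 ∨ Stands p 5 := by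
  by_cases h2 : p = 2
  · exact Or.inl h2
  by_cases h3 : p = 3
  · exact Or.inr (Or.inl h3)
  refine Or.inr (Or.inr ?_)
  have h4 : p ≠ 4 := fun h => by subst h; norm_num at hp
  have := hp.two_le
  exact Or.inr ⟨by omega, rfl⟩

/-- A subgroup containing the root elements with parameter one has a field of parameters. -/
theorem exists_level {D : ChevalleyDatum}
    (hD : D ∈ [chevG2, chevB2, chevD4, chevF4, chevE6, chevE7, chevE8])
    {F : Type u} [Field F] [Finite F] (p : ℕ) [Fact p.Prime] [CharP F p] (hF : Facts.{u} D)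
    {H : Subgroup (GL D.Idx F)} (h1 : ∀ s < D.nroots, xG hF s (1 : F) ∈ H) :
    ∃ k : Subfield F, IsLevel hF H k := by
  have hp : p.Prime := Fact.out
  simp only [List.mem_cons, List.not_mem_nil, or_false] at hD
  have hs : Stands 2 2 ∧ Stands 3 3 := ⟨Or.inl rfl, Or.inl rfl⟩
  rcases hD with rfl | rfl | rfl | rfl | rfl | rfl | rfl <;>
    rcases stands_cases hp with rfl | rfl | h5
  · exact level_generic hF h1 g2_checks 2 hs.1 g2_steps2 g2_A2 g2_torus g2_two
  · exact level_special hF h1 g2_checks 3 g2_spec (by decide +kernel) g2_A2 g2_torus g2_two g2_power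
  · exact level_generic hF h1 g2_checks p h5 g2_steps5 g2_A2 g2_torus g2_two
  · exact level_b2_two h1
  · exact level_B2 hF h1 b2_checks 3 hs.2 b2_steps3 b2_pair b2_two
  · exact level_B2 hF h1 b2_checks p h5 b2_steps5 b2_pair b2_two
  · exact level_generic hF h1 d4_checks 2 hs.1 d4_steps2 d4_A2 d4_torus d4_two
  · exact level_generic hF h1 d4_checks 3 hs.2 d4_steps3 d4_A2 d4_torus d4_two
  · exact level_generic hF h1 d4_checks p h5 d4_steps5 d4_A2 d4_torus d4_two
  · exact level_special hF h1 f4_checks 2 f4_spec (by decide +kernel) f4_A2 f4_torus f4_two f4_power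
  · exact level_generic hF h1 f4_checks 3 hs.2 f4_steps3 f4_A2 f4_torus f4_two
  · exact level_generic hF h1 f4_checks p h5 f4_steps5 f4_A2 f4_torus f4_two
  · exact level_generic hF h1 e6_checks 2 hs.1 e6_steps2 e6_A2 e6_torus e6_two
  · exact level_generic hF h1 e6_checks 3 hs.2 e6_steps3 e6_A2 e6_torus e6_two
  · exact level_generic hF h1 e6_checks p h5 e6_steps5 e6_A2 e6_torus e6_two
  · exact level_generic hF h1 e7_checks 2 hs.1 e7_steps2 e7_A2 e7_torus e7_two
  · exact level_generic hF h1 e7_checks 3 hs.2 e7_steps3 e7_A2 e7_torus e7_two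
  · exact level_generic hF h1 e7_checks p h5 e7_steps5 e7_A2 e7_torus e7_two
  · exact level_generic hF h1 e8_checks 2 hs.1 e8_steps2 e8_A2 e8_torus e8_two
  · exact level_generic hF h1 e8_checks 3 hs.2 e8_steps3 e8_A2 e8_torus e8_two
  · exact level_generic hF h1 e8_checks p h5 e8_steps5 e8_A2 e8_torus e8_two

end Cfsg.Agent.Overgroup
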