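import Cfsg.Agent.Overgroup.Pairs

/-!
An overgroup consists of fixed elements.
-/

set_option autoImplicit false
set_option linter.unusedSectionVars false
set_option linter.unusedDecidableInType false

namespace Cfsg.Agent.Overgroup

open Cfsg.Lie Cfsg.Agent.Chev
open Cfsg.Agent.RootSub.Dickson (upR lowR coe_upR coe_lowR)
open scoped MatrixGroups

universe u

variable {D : ChevalleyDatum} {F : Type u} [Field F] {hF : Facts.{u} D}

theorem conj_prodFrom (hF : Facts.{u} D) {g : GL D.Idx F} (e : ℕ → F)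
    (he : ∀ r < D.nroots, ∀ t : F, g * xG hF r t * g⁻¹ = xG hF r (e r * t)) (t : ℕ → F) :
    ∀ d k, D.nroots - k = d →
      g * prodFrom hF k t * g⁻¹ = prodFrom hF k fun r => e r * t r := by
  intro d
  induction d with
  | zero =>
    intro k hd
    rw [prodFrom_top hF (by omega), prodFrom_top hF (by omega), mul_one, mul_inv_cancel]
  | succ d ih =>
    intro k hd
    rw [prodFrom_succ hF (show k < D.nroots by omega), prodFrom_succ hF (show k < D.nroots by omega),
      ← he k (by omega), ← ih (k + 1) (by omega)]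
    group

theorem prodFrom_split_top (hF : Facts.{u} D) (t : ℕ → F) :
    ∀ d k, D.nroots - 1 - k = d → k ≤ D.nroots - 1 → ∃ P : GL D.Idx F,
      (∀ y : GL D.Idx F, (∀ r, k ≤ r → r < D.nroots - 1 → Commute (xG hF r (t r)) y) →
        Commute P y) ∧
      prodFrom hF k t = P * xG hF (D.nroots - 1) (t (D.nroots - 1)) := by
  have hn := top_lt hF
  intro d
  induction d with
  | zero =>
    intro k hd hk
    obtain rfl : k = D.nroots - 1 := by omega
    refine ⟨1, fun y _ => Commute.one_left y, ?_⟩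
    rw [prodFrom_succ hF hn, prodFrom_top hF (by omega), one_mul, mul_one]
  | succ d ih =>
    intro k hd hk
    obtain ⟨P, hP, e⟩ := ih (k + 1) (by omega) (by omega)
    refine ⟨xG hF k (t k) * P, fun y hy => (hy k le_rfl (by omega)).mul_left
      (hP y fun r h1 h2 => hy r (by omega) h2), ?_⟩
    rw [prodFrom_succ hF (show k < D.nroots by omega), e, mul_assoc]

variable [Fintype F] {C : Cert} {H : Subgroup (GL D.Idx F)} {σ : F →+* F}
  (hD : D ∈ [chevG2, chevB2, chevD4, chevF4, chevE6, chevE7, chevE8])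
  (p : ℕ) [Fact p.Prime] [CharP F p]
include hD p

/-- A conjugate of the last root element which is not fixed is opposite to it. -/
theorem Setting.opposite (S : Setting hF H σ) (hC : Checks D C) (hc : chkLinked D C = true)
    (L : LongFacts.{u} D C hF) {h : GL D.Idx F} (hH : h ∈ H)
    (hx' : gmap D σ (h * xG hF (D.nroots - 1) 1 * h⁻¹) ≠ h * xG hF (D.nroots - 1) 1 * h⁻¹) :
    ∃ b ∈ D.borelSubgroup F, ∃ a c : F, a ≠ 0 ∧ c ≠ 0 ∧
      b * xG hF (D.nroots - 1) a * b⁻¹ = xG hF (D.nroots - 1) 1 ∧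
      b * xG hF 0 c * b⁻¹ = h * xG hF (D.nroots - 1) 1 * h⁻¹ := by
  obtain ⟨b, hb, ρ, hρ, hl, a, c, ha, hc0, e1, e2⟩ := pair_form hF L (S.le_group hH)
  by_cases hρ0 : ρ = 0
  · subst hρ0
    exact ⟨b, hb, a, c, ha, hc0, e1, e2⟩
  refine absurd ?_ hx'
  have hx1 := S.one_mem' (D.nroots - 1)
  rw [← e2]
  refine S.no_pair hD p hC hc L (borel_le_group hF hb) hρ hl hρ0 ha ?_ ?_ ?_
  · rw [e1]; exact hx1
  · rw [e1, gmap_xG hF hF, map_one]
  · rw [e2]; exact H.mul_mem (H.mul_mem hH hx1) (H.inv_mem hH)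

omit p in
/-- In characteristic two every conjugate of the last root element is fixed. -/
theorem Setting.escape_two [CharP F 2] (S : Setting hF H σ) (hC : Checks D C)
    (hc : chkLinked D C = true) (L : LongFacts.{u} D C hF) {h : GL D.Idx F} (hH : h ∈ H) :
    gmap D σ (h * xG hF (D.nroots - 1) 1 * h⁻¹) = h * xG hF (D.nroots - 1) 1 * h⁻¹ := by
  haveI : Fact (Nat.Prime 2) := ⟨Nat.prime_two⟩
  by_contra hx'
  set T := D.nroots - 1 with hT
  have hTlt : T < D.nroots := top_lt hF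
  have h0lt : 0 < D.nroots := lt_of_le_of_lt (Nat.zero_le _) hTlt
  obtain ⟨b, hb, a, c, ha, hc0, e1, e2⟩ := S.opposite hD 2 hC hc L hH hx'
  set x := xG hF T (1 : F) with hx
  set x' := h * x * h⁻¹ with hx'd
  have hx'H : x' ∈ H := H.mul_mem (H.mul_mem hH (S.one_mem' T)) (H.inv_mem hH)
  have sq : ∀ (r : ℕ) (t : F), xG hF r t * xG hF r t = 1 := fun r t => by
    rw [← pow_two]; exact xG_prime_pow hF 2 r t
  obtain ⟨r₀, hr₀, hr₀p, hr₀T, hcT, hc0'⟩ := L.aside
  have hcomT := commute_of_chk hF hTlt hr₀ hcT (1 : F) (1 : F)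
  have hcom0 := commute_of_chk hF h0lt hr₀ hc0' (1 : F) (1 : F)
  set y := xG hF r₀ (1 : F) * x with hy
  have hyH : y ∈ H := H.mul_mem (S.one_mem' r₀) (S.one_mem' T)
  have hyf : gmap D σ y = y := by rw [hy, hx, map_mul, gmap_xG hF hF, gmap_xG hF hF, map_one]
  have hy1 : y ≠ 1 := by
    intro e
    refine one_ne_zero (α := F) (lead_zero hF hr₀ hr₀p ?_)
    rw [show xG hF r₀ (1 : F) = x⁻¹ from eq_inv_of_mul_eq_one_left e]
    exact inv_mem (xG_mem_RF hF (show r₀ + 1 ≤ T by omega) hTlt 1)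
  have hy2 : y * y = 1 := by
    rw [hy, mul_assoc, ← mul_assoc x, ← hcomT.eq, mul_assoc, sq, mul_one, sq]
  have hyinv : y⁻¹ = y := inv_eq_of_mul_eq_one_right hy2
  have hx'2 : x' * x' = 1 := by
    rw [hx'd, show h * x * h⁻¹ * (h * x * h⁻¹) = h * (x * x) * h⁻¹ by group, hx, sq, mul_one,
      mul_inv_cancel]
  have hx'inv : x'⁻¹ = x' := inv_eq_of_mul_eq_one_right hx'2
  set P := y * x' with hP
  have hPH : P ∈ H := H.mul_mem hyH hx'H
  have hPinv : P⁻¹ = x' * y := by rw [hP, mul_inv_rev, hyinv, hx'inv]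
  have hconj : ∀ n : ℕ, y * P ^ n * y⁻¹ = (P ^ n)⁻¹ := fun n => by
    rw [← conj_pow, ← inv_pow]
    congr 1
    rw [hPinv, hP, hyinv, ← mul_assoc y y, hy2, one_mul]
  haveI : Finite (GL D.Idx F) := Finite.of_injective (fun g : GL D.Idx F => (g : Matrix D.Idx D.Idx F))
    fun g g' e => Units.ext e
  have hP1 : P ^ orderOf P = 1 := pow_orderOf_eq_one P
  have hopos : 0 < orderOf P := orderOf_pos P
  rcases Nat.even_or_odd (orderOf P) with ⟨k, hk⟩ | ⟨k, hk⟩
  · set j := P ^ k with hj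
    have hj2 : j * j = 1 := by rw [hj, ← pow_add, ← hk, hP1]
    have hj1 : j ≠ 1 := pow_ne_one_of_lt_orderOf (by omega) (by omega)
    have hjy : Commute y j := by
      have := hconj k
      rw [← hj, inv_eq_of_mul_eq_one_right hj2, mul_inv_eq_iff_eq_mul] at this
      exact this
    have hjH : j ∈ H := H.pow_mem hPH k
    have hjf := S.centralizer_fixed hD 2 hC hc (S.le_group hyH) hyf (m := 1)
      (by rw [pow_one, pow_two, hy2]) hy1 hjH hjy.symm
    refine hx' (S.centralizer_fixed hD 2 hC hc (S.le_group hjH) hjf (m := 1)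
      (by rw [pow_one, pow_two, hj2]) hj1 hx'H ?_)
    rw [show x' = y * P by rw [hP, ← mul_assoc, hy2, one_mul]]
    exact hjy.mul_left ((Commute.refl P).pow_right k)
  · set g2 := y * (P ^ k)⁻¹ with hg2
    have hg2H : g2 ∈ H := H.mul_mem hyH (H.inv_mem (H.pow_mem hPH k))
    have hg2y : g2 * y * g2⁻¹ = x' := by
      have e4 : y * P ^ k = (P ^ k)⁻¹ * y := mul_inv_eq_iff_eq_mul.1 (hconj k)
      have e5 : (P ^ k)⁻¹ * (P ^ k)⁻¹ = P := by
        rw [← mul_inv_rev, inv_eq_iff_mul_eq_one, ← pow_add, ← pow_succ, ← two_mul, ← hk, hP1]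
      rw [hg2, show y * (P ^ k)⁻¹ * y * (y * (P ^ k)⁻¹)⁻¹ =
        y * ((P ^ k)⁻¹ * (y * P ^ k)) * y⁻¹ by group, e4, ← mul_assoc ((P ^ k)⁻¹), e5, hP,
        hyinv, ← mul_assoc y, ← mul_assoc y, hy2, one_mul, mul_assoc, hy2, mul_one]
    set g3 := g2⁻¹ * h with hg3
    have hg3G : g3 ∈ D.group F := S.le_group (H.mul_mem (H.inv_mem hg2H) hH)
    have hy3 : y = g3 * x * g3⁻¹ := by
      rw [hg3, show g2⁻¹ * h * x * (g2⁻¹ * h)⁻¹ = g2⁻¹ * x' * g2 by rw [hx'd]; group, ← hg2y]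
      group
    -- the first root element is a conjugate of the last
    obtain ⟨w, hw⟩ := L.orbit ⟨0, h0lt⟩ L.zero
    obtain ⟨w', hw'⟩ := exists_pWord hF (Subgroup.inv_mem _ (pWord_mem hF w))
    have hw'T : (pWord hF w' (topRoot hF) : ℕ) = 0 := by
      rw [hw', ← hw, ← Equiv.Perm.mul_apply, inv_mul_cancel, Equiv.Perm.one_apply]
    obtain ⟨d₀, hd₀, hd₀τ, hn0⟩ := nWord_conj hF w' (topRoot hF) (F := F)
    have one_of : ∀ d : F, d ≠ 0 → (∀ τ : F →+* F, τ d = d) → d = 1 := by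
      intro d hd hτ
      have h2 := hτ (frobenius F 2)
      rw [frobenius_def, pow_two] at h2
      exact mul_right_cancel₀ hd (h2.trans (one_mul d).symm)
    have hx0 : nWord hF w' * x * (nWord hF w')⁻¹ = xG hF 0 (1 : F) := by
      have := hn0 1
      rw [hw'T, one_of d₀ hd₀ hd₀τ, mul_one] at this
      exact this
    have hgG : g3⁻¹ * nWord hF w' ∈ D.group F :=
      mul_mem (inv_mem hg3G) (monomial_le_group hF (nWord_mem hF w'))
    obtain ⟨b', hb', ρ, hρ, hl, a', c', ha', hc', f1, f2⟩ := pair_form hF L hgG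
    set Q := y * xG hF 0 (1 : F) with hQ
    set P2 := xG hF T a' * xG hF ρ c' with hP2
    have hQP : Q = (g3 * b') * P2 * (g3 * b')⁻¹ := by
      rw [hP2, show g3 * b' * (xG hF T a' * xG hF ρ c') * (g3 * b')⁻¹ =
        g3 * ((b' * xG hF T a' * b'⁻¹) * (b' * xG hF ρ c' * b'⁻¹)) * g3⁻¹ by group, f1, f2, hQ,
        hy3, ← hx0, hx, hT]
      group
    obtain ⟨ψ, d, d', hdd, hd, hd', hinj, hup, hlow, -⟩ := exists_top_hom hF L (F := F)
    have hd1 := one_of d hd fun τ => (hdd τ).1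
    have hd1' := one_of d' hd' fun τ => (hdd τ).2
    set T1 := x * xG hF 0 (1 : F) with hT1
    have hT1ψ : T1 = ψ (upR 1 * lowR 1) := by
      rw [map_mul, hup, hlow, hd1, hd1', one_mul, hT1, hx]
    have hT13 : T1 ^ 3 = 1 := by rw [hT1ψ, ← map_pow, pair_cube, map_one]
    have hT1ne : T1 ≠ 1 := by
      intro e
      have hxU : x ∈ D.posUnipotent F := mem_posUnipotent_of hF hTlt (half_le_top hF) 1
      have h0half : 0 < half D := by
        have := hF.nroots_even
        omega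
      have hxN : x ∈ D.negUnipotent F := by
        rw [eq_inv_of_mul_eq_one_left e]
        exact inv_mem (mem_negUnipotent_of hF h0lt h0half 1)
      exact one_ne_zero ((xG_eq_one_iff hF hTlt).1
        (borel_inf_upper hF (Subgroup.mem_sup_left hxU) (negUnipotent_le_upperGroup hF hxN)))
    have hQ' : Q = xG hF r₀ 1 * T1 := by rw [hQ, hy, hT1, mul_assoc]
    have hQn : ∀ n : ℕ, Q ^ n = xG hF r₀ ((n : F) * 1) * T1 ^ n := fun n => by
      rw [hQ', (hcomT.mul_right hcom0).mul_pow, xG_pow]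
    have h2F : (2 : F) = 0 := CharTwo.two_eq_zero
    have hQ4 : Q ^ 4 ≠ 1 := by
      rw [hQn, show T1 ^ 4 = T1 ^ 3 * T1 from pow_succ _ _, hT13, one_mul,
        show ((4 : ℕ) : F) * 1 = 0 by push_cast; linear_combination (2 : F) * h2F, xG_zero, one_mul]
      exact hT1ne
    have hQ6 : Q ^ 6 = 1 := by
      rw [hQn, show T1 ^ 6 = (T1 ^ 3) ^ 2 from pow_mul T1 3 2, hT13, one_pow, mul_one,
        show ((6 : ℕ) : F) * 1 = 0 by push_cast; linear_combination (3 : F) * h2F, xG_zero]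
    have hQ3 : Q ^ 3 ≠ 1 := by
      rw [hQn, hT13, mul_one, show ((3 : ℕ) : F) * 1 = 1 by push_cast; linear_combination h2F]
      exact fun e => one_ne_zero ((xG_eq_one_iff hF hr₀).1 e)
    rw [hQP, conj_pow] at hQ4 hQ6 hQ3
    have hP6 : P2 ^ 6 = 1 := conj_eq_one_iff.1 hQ6
    have hP3 : P2 ^ 3 ≠ 1 := fun e => hQ3 (by rw [e]; group)
    have hP4 : P2 ^ 4 ≠ 1 := fun e => hQ4 (by rw [e]; group)
    by_cases hρ0 : ρ = 0
    · subst hρ0
      have hψ : P2 = ψ (upR a' * lowR c') := by rw [map_mul, hup, hlow, hd1, hd1', one_mul, one_mul]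
      rw [hψ, ← map_pow, ← map_one ψ] at hP6
      refine hP3 ?_
      rw [hψ, ← map_pow, pair_six ha' hc' (hinj hP6), map_one]
    · obtain ⟨W, hW, -, hWc, hWp⟩ := top_comm hF L hρ hl hρ0 a' c'
      rw [inv_eq_of_mul_eq_one_right (sq T a')] at hW
      refine hP4 ?_
      have e3 : P2 ^ 2 = W := by
        rw [pow_two, hP2, ← mul_assoc, hW, mul_assoc, hWc.eq, ← mul_assoc, sq, one_mul]
      rw [show (4 : ℕ) = 2 * 2 from rfl, pow_mul, e3, hWp 2 inferInstance]

/-- In odd characteristic every conjugate of the last root element is fixed. -/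
theorem Setting.escape_odd (hp2 : p ≠ 2) (S : Setting hF H σ) (hC : Checks D C)
    (hc : chkLinked D C = true) (L : LongFacts.{u} D C hF) {h : GL D.Idx F} (hH : h ∈ H) :
    gmap D σ (h * xG hF (D.nroots - 1) 1 * h⁻¹) = h * xG hF (D.nroots - 1) 1 * h⁻¹ := by
  by_contra hx'
  set T := D.nroots - 1 with hT
  have hTlt : T < D.nroots := top_lt hF
  have h0lt : 0 < D.nroots := lt_of_le_of_lt (Nat.zero_le _) hTlt
  have h2F : (2 : F) ≠ 0 := Ring.two_ne_zero (by rwa [ringChar.eq F p])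
  obtain ⟨b, hb, a, c, ha, hc0, e1, e2⟩ := S.opposite hD p hC hc L hH hx'
  set x := xG hF T (1 : F) with hx
  set x' := h * x * h⁻¹ with hx'd
  have hxH : x ∈ H := S.one_mem' T
  have hx'H : x' ∈ H := H.mul_mem (H.mul_mem hH hxH) (H.inv_mem hH)
  obtain ⟨ψ, d, d', -, hd, hd', -, hup, hlow, hψfix, hψdiag, hψconj⟩ := exists_top_hom hF L (F := F)
  set h1 := ψ (-1) with hh1
  have hh1H : h1 ∈ H := S.fixedRoots_le (hψfix σ)
  have hh1f : gmap D σ h1 = h1 := fixed_of_mem_fixedRoots hF σ (hψfix σ)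
  have hh1sq : h1 * h1 = 1 := by rw [hh1, ← map_mul, neg_mul_neg, one_mul, map_one]
  have hh1inv : h1⁻¹ = h1 := inv_eq_of_mul_eq_one_right hh1sq
  set z' := b * h1 * b⁻¹ with hz'
  have hz'H : z' ∈ H := by
    have hle : Subgroup.closure ({lowR (c * d'⁻¹), upR (a * d⁻¹)} : Set SL(2, F)) ≤
        H.comap ((MulAut.conj b).toMonoidHom.comp ψ) := by
      refine (Subgroup.closure_le _).2 ?_
      rintro m (rfl | rfl)
      · show b * ψ (lowR (c * d'⁻¹)) * b⁻¹ ∈ H
        rw [hlow, mul_comm c, mul_inv_cancel_left₀ hd', e2]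
        exact hx'H
      · show b * ψ (upR (a * d⁻¹)) * b⁻¹ ∈ H
        rw [hup, mul_comm a, mul_inv_cancel_left₀ hd, e1]
        exact hxH
    exact hle (neg_one_mem_pair p hp2 (mul_ne_zero ha (inv_ne_zero hd))
      (mul_ne_zero hc0 (inv_ne_zero hd')))
  obtain ⟨v, hv, tb, hbv⟩ := (mem_borel_iff hF).1 hb
  obtain ⟨th, hth⟩ := (mem_diagonal_iff hF).1 hψdiag
  have hz'v : z' = v * h1 * v⁻¹ := by
    have hcm : torusHom tb * h1 = h1 * torusHom tb := by
      rw [← hth, ← map_mul, ← map_mul, mul_comm]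
    rw [hz', hbv, show v * torusHom tb * h1 * (v * torusHom tb)⁻¹ =
      v * (torusHom tb * h1) * (torusHom tb)⁻¹ * v⁻¹ by group, hcm]
    group
  set u0 := z' * h1 with hu0
  have hu0H : u0 ∈ H := H.mul_mem hz'H hh1H
  have hu0U : u0 ∈ D.posUnipotent F := by
    have hn : h1 * v⁻¹ * h1⁻¹ ∈ D.posUnipotent F := by
      obtain ⟨t, ht⟩ := (mem_posUnipotent_iff hF).1 (inv_mem hv)
      rw [ht, conj_prodFrom hF _ hψconj t _ _ rfl]
      exact (mem_posUnipotent_iff hF).2 ⟨_, rfl⟩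
    rw [hu0, hz'v, show v * h1 * v⁻¹ * h1 = v * (h1 * v⁻¹ * h1) by group]
    exact mul_mem hv (by rwa [hh1inv] at hn)
  have hu0f : gmap D σ u0 = u0 := S.unipotent_fixed hu0U hu0H
  have hu0conj : h1 * u0 * h1⁻¹ = u0⁻¹ := by
    rw [hu0, hz'v, mul_inv_rev, hh1inv, show h1 * (v * h1 * v⁻¹ * h1) * h1 =
      h1 * (v * h1 * v⁻¹) * (h1 * h1) by group, hh1sq, mul_one,
      show (v * h1 * v⁻¹)⁻¹ = v * h1⁻¹ * v⁻¹ by group, hh1inv]
  obtain ⟨n, hn⟩ := isPGroup_posUnipotent hF p ⟨u0, hu0U⟩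
  have hn' : u0 ^ p ^ n = 1 := congrArg Subtype.val hn
  obtain ⟨m, hm⟩ : Odd (p ^ n) :=
    (((Fact.out : p.Prime).eq_two_or_odd').resolve_left hp2).pow
  set w := u0 ^ (m + 1) with hw
  have hwH : w ∈ H := H.pow_mem hu0H _
  have hwf : gmap D σ w = w := by rw [hw, map_pow, hu0f]
  have hww : w * w = u0 := by
    rw [hw, ← pow_add, show m + 1 + (m + 1) = p ^ n + 1 by omega, pow_succ, hn', one_mul]
  have hwconj : h1 * w * h1⁻¹ = w⁻¹ := by rw [hw, ← conj_pow, hu0conj, inv_pow]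
  have hwh : w * h1 * w⁻¹ = z' := by
    have e3 : h1 * w⁻¹ = w * h1 := by
      rw [← hwconj, show h1 * (h1 * w * h1⁻¹) = (h1 * h1) * w * h1⁻¹ by group, hh1sq, one_mul,
        hh1inv]
    rw [mul_assoc, e3, ← mul_assoc, hww, hu0, mul_assoc, hh1sq, mul_one]
  set u := w⁻¹ * v with hu
  have hwU : w ∈ D.posUnipotent F := pow_mem hu0U _
  have huU : u ∈ D.posUnipotent F := mul_mem (inv_mem hwU) hv
  have hucom : h1 * u * h1⁻¹ = u := by
    have e3 : u * h1 * u⁻¹ = h1 := by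
      rw [hu, show w⁻¹ * v * h1 * (w⁻¹ * v)⁻¹ = w⁻¹ * (v * h1 * v⁻¹) * w by group, ← hz'v, ← hwh]
      group
    rw [mul_inv_eq_iff_eq_mul]
    exact (mul_inv_eq_iff_eq_mul.1 e3).symm
  obtain ⟨t, htu⟩ := (mem_posUnipotent_iff hF).1 huU
  have htr : ∀ r, half D ≤ r → r < D.nroots → (-1 : F) ^ pairing D T r * t r = t r := by
    intro r hr hrn
    rw [htu, conj_prodFrom hF _ hψconj t _ _ rfl] at hucom
    exact prodFrom_inj hF _ _ rfl le_rfl hucom r hr hrn
  set c2 : F := (chiU tb 0 : F) * c with hc2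
  have hcom : ∀ r, half D ≤ r → r < T → ∀ s : F,
      Commute (xG hF r (t r)) (xG hF T s) ∧ Commute (xG hF r (t r)) (xG hF 0 s) := by
    intro r hr hrT s
    rcases L.split r (by omega) hr (by omega) with hodd | ⟨k1, k2⟩
    · have := htr r hr (by omega)
      rw [hodd.neg_one_zpow, neg_one_mul] at this
      have ht0 : t r = 0 := by
        have : (2 : F) * t r = 0 := by linear_combination (-1 : F) * this
        exact (mul_eq_zero.1 this).resolve_left h2F
      rw [ht0, xG_zero]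
      exact ⟨Commute.one_left _, Commute.one_left _⟩
    · exact ⟨commute_of_chk hF hTlt (by omega) k1 s (t r),
        commute_of_chk hF h0lt (by omega) k2 s (t r)⟩
  obtain ⟨P, hP, hPu⟩ := prodFrom_split_top hF t _ (half D) rfl (half_le_top hF)
  set s := t T with hs
  set x'' := w⁻¹ * x' * w with hx''
  have hx''H : x'' ∈ H := H.mul_mem (H.mul_mem (H.inv_mem hwH) hx'H) hwH
  have hshape : x'' = xG hF T s * xG hF 0 c2 * (xG hF T s)⁻¹ := by
    have e3 : torusHom tb * xG hF 0 c * (torusHom tb)⁻¹ = xG hF 0 c2 := by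
      rw [torusHom_conj hF tb h0lt, mul_inv_cancel_right]
    have e4 : x'' = u * xG hF 0 c2 * u⁻¹ := by
      rw [← e3, hx'', ← e2, hbv, hu]; group
    have hPc : Commute P (xG hF T s * xG hF 0 c2 * (xG hF T s)⁻¹) :=
      (Commute.mul_right (hP _ fun r h1 h2 => (hcom r h1 h2 s).1)
        (hP _ fun r h1 h2 => (hcom r h1 h2 c2).2)).mul_right
        (hP _ fun r h1 h2 => (hcom r h1 h2 s).1).inv_right
    rw [e4, htu, hPu, show P * xG hF T s * xG hF 0 c2 * (P * xG hF T s)⁻¹ =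
      P * (xG hF T s * xG hF 0 c2 * (xG hF T s)⁻¹) * P⁻¹ by group, hPc.eq, mul_inv_cancel_right]
  have hx''f : gmap D σ x'' ≠ x'' := by
    intro e
    refine hx' ?_
    rw [hx'', map_mul, map_mul, map_inv, hwf] at e
    exact mul_left_cancel (mul_right_cancel e)
  -- move the pair by a simple reflection
  obtain ⟨i, hi1, hi2⟩ := L.move
  set g0 := (nWord hF [i] : GL D.Idx F) with hg0
  have hg0f := nWord_mem_fixedRoots hF σ [i] (F := F)
  obtain ⟨dT, -, -, hgT⟩ := nWord_conj hF [i] (topRoot hF) (F := F)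
  obtain ⟨d0, hd00, -, hg00⟩ := nWord_conj hF [i] (negF hF (topRoot hF)) (F := F)
  set r' := (pWord hF [i] (topRoot hF) : ℕ) with hr'
  have hr'v : r' = D.reflectRoot i T := by
    rw [hr', pWord_cons, Equiv.Perm.mul_apply, wPerm_val]; rfl
  have hr'lt : r' < D.nroots := (pWord hF [i] (topRoot hF)).2
  have hneg0 : (negF hF (topRoot hF) : ℕ) = 0 := by
    show D.neg T = 0
    rw [hF.neg_eq _ hTlt]; omega
  rw [hneg0] at hg00
  set ρ := (pWord hF [i] (negF hF (topRoot hF)) : ℕ) with hρ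
  have hρne : ρ ≠ 0 := by
    rw [hρ, pWord_negF]
    show D.neg r' ≠ 0
    rw [hF.neg_eq _ hr'lt]
    have : r' ≠ T := by rw [hr'v]; exact hi2
    omega
  have hρl : lngB D C ρ = true :=
    lngB_pWord hF L [i] _ (by rw [hneg0]; exact L.zero)
  set G := xG hF r' (dT * s) with hG
  have hGU : G ∈ D.posUnipotent F :=
    mem_posUnipotent_of hF hr'lt (by rw [hr'v]; exact hi1) _
  have hG1 : G * xG hF T 1 * G⁻¹ = xG hF T 1 := by
    rw [(top_commute_posUnipotent hF hGU (1 : F)).eq, mul_inv_cancel_right]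
  have hG2 : G * xG hF ρ (d0 * c2) * G⁻¹ = g0 * x'' * g0⁻¹ := by
    rw [hG, ← show g0 * xG hF T s * g0⁻¹ = _ from hgT s,
      ← show g0 * xG hF 0 c2 * g0⁻¹ = _ from hg00 c2, hshape]
    group
  have h3H : g0 * x'' * g0⁻¹ ∈ H :=
    H.mul_mem (H.mul_mem (S.fixedRoots_le hg0f) hx''H) (H.inv_mem (S.fixedRoots_le hg0f))
  have hfix := S.no_pair hD p hC hc L (g := G) (borel_le_group hF (Subgroup.mem_sup_left hGU))
    (pWord hF [i] (negF hF (topRoot hF))).2 hρl hρne (a := (1 : F)) (c := d0 * c2) one_ne_zero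
    (by rw [hG1]; exact hxH) (by rw [hG1, gmap_xG hF hF, map_one]) (by rw [hG2]; exact h3H)
  rw [hG2, map_mul, map_mul, map_inv, fixed_of_mem_fixedRoots hF σ hg0f] at hfix
  exact hx''f (mul_left_cancel (mul_right_cancel hfix))

/-- An overgroup consists of fixed elements. -/
theorem Setting.all_fixed (S : Setting hF H σ) (hC : Checks D C) (hc : chkLinked D C = true)
    (L : LongFacts.{u} D C hF) {h : GL D.Idx F} (hH : h ∈ H) : gmap D σ h = h := by
  have hesc : gmap D σ (h * xG hF (D.nroots - 1) 1 * h⁻¹) = h * xG hF (D.nroots - 1) 1 * h⁻¹ := by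
    by_cases hp2 : p = 2
    · subst hp2
      exact S.escape_two hD hC hc L hH
    · exact S.escape_odd hD p hp2 hC hc L hH
  refine S.transporter_fixed hD p hC hc (xG_mem_group hF _ (1 : F)) ?_ (m := 1) ?_ ?_ hH hesc
  · rw [gmap_xG hF hF, map_one]
  · rw [pow_one, xG_prime_pow]
  · exact fun e => one_ne_zero ((xG_eq_one_iff hF (top_lt hF)).1 e)

end Cfsg.Agent.Overgroup
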