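import Cfsg.Agent.Overgroup.Exists
import Cfsg.Agent.Overgroup.Long
import Cfsg.Agent.Overgroup.Data.Long

/-!
Overgroups of the group of a prime field in a Chevalley group over a finite field.
-/

set_option autoImplicit false

namespace Cfsg.Agent.Overgroup

open Cfsg.Lie Cfsg.Agent.Chev
open scoped MatrixGroups

universe u

/-- A finite subfield consists of the fixed points of a power map. -/
theorem mem_subfield_iff_pow {K : Type u} [Field K] (L : Subfield K) [Finite L] {t : K} :
    t ∈ L ↔ t ^ Nat.card L = t := by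
  classical
  have : Fintype L := Fintype.ofFinite L
  rw [Nat.card_eq_fintype_card]
  set q := Fintype.card L with hq
  refine ⟨fun h => congrArg Subtype.val (FiniteField.pow_card (⟨t, h⟩ : L)), fun h => ?_⟩
  have h1 : 1 < q := Fintype.one_lt_card
  set P : Polynomial K := Polynomial.X ^ q - Polynomial.X
  have hP : P ≠ 0 := FiniteField.X_pow_card_sub_X_ne_zero K h1
  have hroot : ∀ x : K, x ^ q = x → x ∈ P.roots.toFinset := fun x hx => by
    rw [Multiset.mem_toFinset, Polynomial.mem_roots hP]
    simp [P, hx]
  set S : Finset K := (Finset.univ : Finset L).image Subtype.val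
  have hS : S.card = q := by
    rw [Finset.card_image_of_injective _ Subtype.val_injective, Finset.card_univ]
  have hsub : S ⊆ P.roots.toFinset := fun x hx => by
    obtain ⟨y, -, rfl⟩ := Finset.mem_image.1 hx
    exact hroot y (congrArg Subtype.val (FiniteField.pow_card y))
  have hle : P.roots.toFinset.card ≤ S.card := by
    rw [hS]
    refine le_trans (Multiset.toFinset_card_le _) (le_trans (Polynomial.card_roots' P) ?_)
    rw [FiniteField.X_pow_card_sub_X_natDegree_eq K h1]
  have hmem := hroot t h
  rw [← Finset.eq_of_subset_of_card_le hsub hle] at hmem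
  obtain ⟨y, -, rfl⟩ := Finset.mem_image.1 hmem
  exact y.2

/-- An overgroup of the root elements with parameter one lies between the root elements and the
matrices over a subfield. -/
theorem overgroup_finite {D : ChevalleyDatum}
    (hD : D ∈ [chevG2, chevB2, chevD4, chevF4, chevE6, chevE7, chevE8]) {K : Type u} [Field K]
    [Finite K] (p : ℕ) [Fact p.Prime] [CharP K p] (hF : Facts.{u} D) {H : Subgroup (GL D.Idx K)}
    (hHG : H ≤ D.group K) (h1 : ∀ s < D.nroots, xG hF s (1 : K) ∈ H) :
    ∃ L : Subfield K, (∀ s < D.nroots, ∀ t : K, xG hF s t ∈ H ↔ t ∈ L) ∧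
      ∀ g ∈ H, ∀ i j : D.Idx, (g : Matrix D.Idx D.Idx K) i j ∈ L := by
  classical
  have : Fintype K := Fintype.ofFinite K
  obtain ⟨L, hL⟩ := exists_level hD p hF h1
  have : Fintype L := Fintype.ofFinite L
  obtain ⟨n, -, hn⟩ := FiniteField.card L p
  set σ : K →+* K := iterateFrobenius K p n
  have hσ : ∀ t : K, σ t = t ↔ t ∈ L := fun t => by
    rw [mem_subfield_iff_pow L, Nat.card_eq_fintype_card, hn]
    rfl
  have S : Setting hF H σ := ⟨hHG, fun r hr t => (hL.mem r hr t).trans (hσ t).symm,
    fun r hr hp c h hh hm => (hσ c).2 (hL.lead r hr hp c h hh hm), hL.pre⟩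
  obtain ⟨C, hC, hc, hl⟩ := exists_long_checks hD
  refine ⟨L, hL.mem, fun g hg i j => (hσ _).1 ?_⟩
  have := S.all_fixed hD p hC hc (longFacts hC hF hl) hg
  rw [← gmap_apply σ g i j, this]

end Cfsg.Agent.Overgroup
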