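import Cfsg.Agent.Chev.SubfieldNormalizer
import Cfsg.Agent.Chev.RadicalCentralizer
import Cfsg.Agent.BorelTits.Main

/-!
Descent along a field endomorphism: parabolic subgroups, and centralisers of fixed unipotent
elements.
-/

set_option autoImplicit false
set_option linter.unusedSectionVars false
set_option linter.unusedDecidableInType false

namespace Cfsg.Agent.Overgroup

open Cfsg.Lie Cfsg.Agent.Chev
open scoped MatrixGroups

universe u

variable {D : ChevalleyDatum} {F : Type u} [Field F] (hF : Facts.{u} D) (σ : F →+* F)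
include hF

/-- The fixed root elements are fixed. -/
theorem fixed_of_mem_fixedRoots {g : GL D.Idx F} (hg : g ∈ fixedRoots hF σ) :
    gmap D σ g = g := by
  refine ((Subgroup.closure_le _).2 ?_ :
    fixedRoots hF σ ≤ (gmap D σ).eqLocus (MonoidHom.id _)) hg
  rintro _ ⟨s, t, ht, rfl⟩
  show gmap D σ (xG hF s t) = xG hF s t
  rw [gmap_xG hF hF, ht]

theorem fixedRoots_le_group : fixedRoots hF σ ≤ D.group F :=
  (Subgroup.closure_le _).2 fun _ ⟨s, t, _, e⟩ => e ▸ xG_mem_group hF s t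

theorem nWord_mem_fixedRoots (w : List (Fin D.rank)) :
    (nWord hF w : GL D.Idx F) ∈ fixedRoots hF σ :=
  Subgroup.list_prod_mem _ fun y hy => by
    obtain ⟨i, -, rfl⟩ := List.mem_map.1 hy
    exact mul_mem (mul_mem (xG_mem_fixedRoots hF σ _ (map_one σ))
      (xG_mem_fixedRoots hF σ _ (by rw [map_neg, map_inv₀, map_one])))
      (xG_mem_fixedRoots hF σ _ (map_one σ))

theorem repN_mem_fixedRoots (π : Equiv.Perm (Fin D.nroots)) :
    (repN hF π : GL D.Idx F) ∈ fixedRoots hF σ := by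
  rw [repN]
  split
  · exact nWord_mem_fixedRoots hF σ _
  · exact one_mem _

theorem posUnipotent_fixed {v : GL D.Idx F} (hv : v ∈ D.posUnipotent F)
    (hfix : gmap D σ v = v) : v ∈ fixedRoots hF σ := by
  obtain ⟨t, rfl⟩ := (mem_posUnipotent_iff hF).1 hv
  rw [gmap_prodFrom hF hF] at hfix
  refine wordG_mem hF fun p hp => ?_
  obtain ⟨r, hr, rfl⟩ := List.mem_map.1 hp
  rw [List.mem_range'_1] at hr
  exact xG_mem_fixedRoots hF σ r (prodFrom_inj hF _ _ rfl le_rfl hfix r hr.1 (by omega))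

theorem gmap_PJ (J : Finset (Fin D.rank)) {q : GL D.Idx F} (hq : q ∈ PJ J) :
    gmap D σ q ∈ (PJ J : Subgroup (GL D.Idx F)) := by
  refine (sup_le (fun b hb => ?_) ((Subgroup.closure_le _).2 ?_) :
    PJ J ≤ (PJ J : Subgroup (GL D.Idx F)).comap (gmap D σ)) hq
  · exact SteinbergValue.borel_le_PJ hF J (gmap_borel hF σ hb)
  · rintro y ⟨j, hj, hjr, ey⟩
    obtain rfl : y = nG hF (D.simple j) 1 := Units.ext (ey.trans (nG_val hF _ 1).symm)
    show gmap D σ (nG hF (D.simple j) 1) ∈ PJ J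
    rw [gmap_nG hF hF, map_one]
    exact Subgroup.mem_sup_right (Subgroup.subset_closure ⟨j, hj, hjr, nG_val hF _ 1⟩)

/-- Descent to the cosets of a parabolic subgroup. -/
theorem descent [Fintype F] (J : Finset (Fin D.rank)) {g : GL D.Idx F} (hg : g ∈ D.group F)
    (h : g⁻¹ * gmap D σ g ∈ PJ J) : ∃ f ∈ fixedRoots hF σ, f⁻¹ * g ∈ PJ J := by
  obtain ⟨⟨⟨π, hπ⟩, ⟨y, hy⟩⟩, e⟩ :=
    (SteinbergValue.cell_bijective hF (F := F) J).2 (QuotientGroup.mk ⟨g, hg⟩)
  rw [QuotientGroup.eq] at e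
  have hq : (y * repN hF π)⁻¹ * g ∈ (PJ J : Subgroup (GL D.Idx F)) := e
  have hn : gmap D σ (repN hF π) = repN hF π :=
    fixed_of_mem_fixedRoots hF σ (repN_mem_fixedRoots hF σ π)
  set m := y * repN hF π with hm
  have hkey : m⁻¹ * gmap D σ m ∈ (PJ J : Subgroup (GL D.Idx F)) := by
    have e1 : m⁻¹ * gmap D σ m =
        (m⁻¹ * g) * (g⁻¹ * gmap D σ g) * (gmap D σ (m⁻¹ * g))⁻¹ := by
      simp only [map_mul, map_inv]; group
    rw [e1]
    exact mul_mem (mul_mem hq h) (inv_mem (gmap_PJ hF σ J hq))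
  have hy' := (SteinbergValue.cell_inj hF ((mem_minSet hF).1 hπ) ((mem_minSet hF).1 hπ) hy
    (gmap_uMinus hF σ _ hy) (by
      show (y * repN hF π)⁻¹ * (gmap D σ y * repN hF π) ∈ PJ J
      rw [hm, map_mul, hn] at hkey
      exact hkey)).2
  exact ⟨m, mul_mem (posUnipotent_fixed hF σ (uMinus_le_posUnipotent hF _ hy) hy'.symm)
    (repN_mem_fixedRoots hF σ π), hq⟩

theorem mem_borel_of_PJ_empty {q : GL D.Idx F}
    (hq : q ∈ (PJ (∅ : Finset (Fin D.rank)) : Subgroup (GL D.Idx F))) :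
    q ∈ D.borelSubgroup F := by
  refine (sup_le le_rfl ((Subgroup.closure_le _).2 ?_) : PJ ∅ ≤ D.borelSubgroup F) hq
  rintro y ⟨j, hj, -⟩
  simp at hj

/-- A centraliser of a fixed `p`-element lies in a fixed parabolic subgroup. -/
theorem central_parabolic [Fintype F]
    (hD : D ∈ [chevG2, chevB2, chevD4, chevF4, chevE6, chevE7, chevE8])
    (p : ℕ) [Fact p.Prime] [CharP F p] {z : GL D.Idx F} (hz : z ∈ D.group F)
    (hfix : gmap D σ z = z) {m : ℕ} (hp : z ^ p ^ m = 1) (hne : z ≠ 1) :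
    ∃ f ∈ fixedRoots hF σ, ∃ J : Finset (Fin D.rank), (∃ i, i ∉ J) ∧
      ∀ c ∈ D.group F, Commute c z → f⁻¹ * c * f ∈ PJ J := by
  set U := Subgroup.zpowers z with hU
  have hUG : U ≤ D.group F := Subgroup.zpowers_le.2 hz
  have hUp : IsPGroup p ↥U := by
    rintro ⟨g, k, rfl⟩
    refine ⟨m, Subtype.ext ?_⟩
    show (z ^ k) ^ p ^ m = 1
    rw [← zpow_natCast, ← zpow_mul, mul_comm, zpow_mul, zpow_natCast, hp, one_zpow]
  obtain ⟨g, hg, d, hd, hdom, hmin⟩ := BorelTits.exists_optimal hF hD p hUG hUp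
  have hcomm : ∀ c, Commute c z → d ∈ BorelTits.optSet U (c * g) := by
    refine fun c hc => ⟨hd.1, fun v hv => ?_⟩
    obtain ⟨k, rfl⟩ := hv
    rw [show (c * g)⁻¹ * z ^ k * (c * g) = g⁻¹ * (c⁻¹ * z ^ k * c) * g by group,
      show c⁻¹ * z ^ k * c = z ^ k by rw [mul_assoc, ← (hc.zpow_right k).eq, inv_mul_cancel_left]]
    exact hd.2 _ ⟨k, rfl⟩
  have hσd : d ∈ BorelTits.optSet U (gmap D σ g) := by
    refine ⟨hd.1, fun v hv a b hab => hd.2 v hv a b fun h0 => hab ?_⟩
    obtain ⟨k, rfl⟩ := hv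
    rw [show (gmap D σ g)⁻¹ * z ^ k * gmap D σ g = gmap D σ (g⁻¹ * z ^ k * g) by
      rw [map_mul, map_mul, map_inv, map_zpow, hfix], Matrix.sub_apply, gmap_apply,
      show (1 : Matrix D.Idx D.Idx F) a b = σ ((1 : Matrix D.Idx D.Idx F) a b) by
        rw [Matrix.one_apply]; split <;> simp,
      ← map_sub, ← Matrix.sub_apply, h0, map_zero]
  set J := BorelTits.zSet D hF d with hJ
  obtain ⟨f, hf, hfg⟩ := descent hF σ J hg
    (BorelTits.optimal_unique hF hD hg (gmap_mem_group hF hF σ hg) hd hσd hdom hdom hmin rfl)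
  refine ⟨f, hf, J, ?_, fun c hc hcz => ?_⟩
  · by_contra hall
    simp only [not_exists, not_not] at hall
    have hd0 := BorelTits.deg_eq_zero_of_all hF hd.1 hall
    refine hne ?_
    have h1 : g⁻¹ * z * g = 1 := by
      apply Units.ext
      ext a b
      by_contra hab
      have := hd.2 z (Subgroup.mem_zpowers z) a b (by rw [Matrix.sub_apply, sub_ne_zero]; exact hab)
      subst hd0
      rcases a with a | a <;> rcases b with b | b <;> simp [BorelTits.dI] at this <;> linarith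
    rw [show z = g * (g⁻¹ * z * g) * g⁻¹ by group, h1]; group
  · have := BorelTits.optimal_unique hF hD hg (mul_mem hc hg) hd (hcomm c hcz) hdom hdom hmin rfl
    rw [show f⁻¹ * c * f = (f⁻¹ * g) * (g⁻¹ * (c * g)) * (f⁻¹ * g)⁻¹ by group]
    exact mul_mem (mul_mem hfg this) (inv_mem hfg)

/-- A radical element with leading root inside `Φ_J` has leading coefficient zero. -/
theorem radical_head {J : Set ℕ} {k : Fin D.nroots} (hk : half D ≤ (k : ℕ))
    (hin : D.InRootSub J k) {c : F} {h : GL D.Idx F}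
    (hh : h ∈ Subgroup.closure (rootsFrom hF ((k : ℕ) + 1) (F := F)))
    (hg : xG hF k c * h ∈ D.unipotentRadical F J) : c = 0 := by
  obtain ⟨π, hπ, hiff⟩ := exists_longest_J hF (idxSet D J)
  obtain ⟨w, rfl⟩ := exists_pWord hF (wJ_le hF _ hπ)
  have hU := unipotentRadical_eq hF J hiff (F := F)
  rw [hU] at hg
  obtain ⟨a, b, ha, -, hb, hb', rfl⟩ :=
    exists_plus_mul_minus hF (pWord hF w) _ ((k : ℕ) + 1) rfl (by omega) h hh
  set x := xG hF k c with hx
  have hxm : x ∈ uMinus hF (pWord hF w) (F := F) :=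
    Subgroup.subset_closure ⟨k, c, hk, (hiff k hk).2 ((inRootSub_iff k).1 hin), rfl⟩
  have hN : x ∈ Subgroup.normalizer ((uPlus hF (pWord hF w) (F := F)) : Set (GL D.Idx F)) := by
    rw [← hU]
    exact parabolic_le_normalizer hF J
      (borel_le_parabolic J (Subgroup.mem_sup_left (mem_posUnipotent_of hF k.2 hk c)))
  have h1 : x * b ∈ uPlus hF (pWord hF w) (F := F) := by
    rw [show x * b = (x * a * x⁻¹)⁻¹ * (x * (a * b)) by group]
    exact mul_mem (inv_mem ((Subgroup.mem_normalizer_iff.1 hN a).1 ha)) hg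
  have h2 := uPlus_inf_uMinus hF (isMon_nWord hF w) h1 (mul_mem hxm hb)
  exact lead_zero hF k.2 hk (by rw [← hx, eq_inv_of_mul_eq_one_left h2]; exact inv_mem hb')

/-- A monomial element fixing the radical roots from `k` on preserves that part of the radical. -/
theorem radical_conj {J : Set ℕ} {n : GL D.Idx F} {π : Equiv.Perm (Fin D.nroots)}
    (hn : IsMon hF n π) : ∀ d k : ℕ, D.nroots - k = d → half D ≤ k →
    (∀ s : Fin D.nroots, k ≤ (s : ℕ) → ¬ D.InRootSub J s → π s = s) →
    ∀ g ∈ Subgroup.closure (rootsFrom hF k (F := F)), g ∈ D.unipotentRadical F J →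
      n * g * n⁻¹ ∈ Subgroup.closure (rootsFrom hF k (F := F)) := by
  intro d
  induction d with
  | zero =>
    intro k hd hk _ g hg _
    obtain ⟨t, rfl⟩ := exists_prodFrom hF _ k rfl hk g hg
    rw [prodFrom_top hF (by omega), mul_one, mul_inv_cancel]
    exact one_mem _
  | succ d ih =>
    intro k hd hk hfix g hg hgU
    have hkn : k < D.nroots := by omega
    obtain ⟨t, rfl⟩ := exists_prodFrom hF _ k rfl hk g hg
    rw [prodFrom_succ hF hkn] at hgU ⊢
    have hh := prodFrom_mem hF (k + 1) t (F := F)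
    set h := prodFrom hF (k + 1) t
    have hle : Subgroup.closure (rootsFrom hF (k + 1) (F := F)) ≤
        Subgroup.closure (rootsFrom hF k) :=
      Subgroup.closure_mono fun g ⟨r, s, h1, h2, h3⟩ => ⟨r, s, by omega, h2, h3⟩
    have hrec : h ∈ D.unipotentRadical F J →
        n * h * n⁻¹ ∈ Subgroup.closure (rootsFrom hF k (F := F)) := fun hu =>
      hle (ih (k + 1) (by omega) (by omega) (fun s hs => hfix s (by omega)) h hh hu)
    by_cases hin : D.InRootSub J k
    · have hc := radical_head hF (k := ⟨k, hkn⟩) hk hin hh hgU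
      rw [hc, xG_zero, one_mul] at hgU ⊢
      exact hrec hgU
    · have hxU : xG hF k (t k) ∈ D.unipotentRadical F J :=
        Subgroup.subset_closure ⟨k, t k, (hF.posRoot_iff k hkn).2 hk, hin, rfl⟩
      obtain ⟨v, hv⟩ := isMon_conj_mem hF hn ⟨k, hkn⟩ (t k)
      rw [show n * (xG hF k (t k) * h) * n⁻¹ = (n * xG hF k (t k) * n⁻¹) * (n * h * n⁻¹) by group,
        show n * xG hF k (t k) * n⁻¹ = _ from hv, hfix ⟨k, hkn⟩ le_rfl hin]
      refine mul_mem (Subgroup.subset_closure ⟨k, v, le_rfl, hkn, rfl⟩) (hrec ?_)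
      have := mul_mem (inv_mem hxU) hgU
      rwa [inv_mul_cancel_left] at this

/-- An element commuting with the root elements `x_r(1)` outside `Φ_J` lies in `B`. -/
theorem borel_of_centralizes {C : Cert} (hC : Checks D C) (hc : chkLinked D C = true) {J : Set ℕ}
    {i : Fin D.rank} (hi : (i : ℕ) ∉ J) {g : GL D.Idx F} (hg : g ∈ D.group F)
    (hcen : ∀ r : Fin D.nroots, half D ≤ (r : ℕ) → ¬ D.InRootSub J r →
      g * xG hF r 1 * g⁻¹ = xG hF r 1) : g ∈ D.borelSubgroup F := by
  obtain ⟨b, hb, w, x, hx, rfl⟩ := exists_normalForm hF hg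
  set n := (nWord hF w : GL D.Idx F) with hn
  have hmon := isMon_nWord hF w (F := F)
  have hxU := uMinus_le_posUnipotent hF _ hx
  obtain ⟨v, hv, c, hvc⟩ := (mem_borel_iff hF).1 (inv_mem hb)
  have key : ∀ d : ℕ, ∀ r : Fin D.nroots, D.nroots - (r : ℕ) = d → half D ≤ (r : ℕ) →
      ¬ D.InRootSub J r → pWord hF w r = r := by
    intro d
    induction d using Nat.strong_induction_on with
    | _ d ih =>
      intro r hd hr hin
      have hlead := conj_lead hF r.2 hr hxU (1 : F)
      have hxr : xG hF r (1 : F) ∈ D.unipotentRadical F J :=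
        Subgroup.subset_closure ⟨r, 1, (hF.posRoot_iff r r.2).2 hr, hin, rfl⟩
      have hN := parabolic_le_normalizer hF J
        (borel_le_parabolic J (Subgroup.mem_sup_left hxU))
      set e := x * xG hF r 1 * x⁻¹ * (xG hF r 1)⁻¹ with he
      have heU : e ∈ D.unipotentRadical F J :=
        mul_mem ((Subgroup.mem_normalizer_iff.1 hN _).1 hxr) (inv_mem hxr)
      have hne : n * e * n⁻¹ ∈ Subgroup.closure (rootsFrom hF ((r : ℕ) + 1) (F := F)) :=
        radical_conj hF hmon _ _ rfl (by omega)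
          (fun s hs hin' => ih _ (by omega) s rfl (by omega) hin') e hlead heU
      have hmain : n * (x * xG hF r 1 * x⁻¹) * n⁻¹ = v * xG hF r (chiU c r : F) * v⁻¹ := by
        have e1 := hcen r hr hin
        have e4 := torusHom_conj hF c r.2 (1 : F)
        rw [mul_one] at e4
        calc n * (x * xG hF r 1 * x⁻¹) * n⁻¹
            = b⁻¹ * (b * n * x * xG hF r 1 * (b * n * x)⁻¹) * b := by group
          _ = b⁻¹ * xG hF r 1 * b := by rw [e1]
          _ = v * (torusHom c * xG hF r 1) * (v * torusHom c)⁻¹ := by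
              rw [← hvc]; rw [show v * (torusHom c * xG hF r 1) = b⁻¹ * xG hF r 1 by
                rw [← mul_assoc, ← hvc]]; group
          _ = v * (xG hF r (chiU c r : F) * torusHom c) * (v * torusHom c)⁻¹ := by rw [e4]
          _ = _ := by group
      obtain ⟨d', hd0, hd'⟩ := hmon r
      have hnx : n * xG hF r 1 * n⁻¹ = xG hF (pWord hF w r) d' := by
        rw [hn, hd', mul_one, mul_inv_cancel_right]
      have hlead2 := conj_lead hF r.2 hr hv (chiU c r : F)
      set y := (n * e * n⁻¹)⁻¹ * (v * xG hF r (chiU c r : F) * v⁻¹ * (xG hF r (chiU c r : F))⁻¹)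
        with hy
      have hym : y ∈ Subgroup.closure (rootsFrom hF ((r : ℕ) + 1) (F := F)) :=
        mul_mem (inv_mem hne) hlead2
      have heq : y * xG hF r (chiU c r : F) = xG hF (pWord hF w r) d' := by
        rw [hy, ← hnx]
        rw [show n * xG hF r 1 * n⁻¹ = (n * e * n⁻¹)⁻¹ * (n * (x * xG hF r 1 * x⁻¹) * n⁻¹) by
          rw [he]; group, hmain]
        group
      by_cases hpos : half D ≤ (pWord hF w r : ℕ)
      · exact (Fin.ext (lead_eq hF r.2 hr (pWord hF w r).2 hpos (Units.ne_zero _) hym heq).1).symm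
      · have hU : xG hF (pWord hF w r : ℕ) d' ∈ D.posUnipotent F := by
          rw [← heq, posUnipotent_eq hF]
          exact mul_mem (Subgroup.closure_mono
            (show rootsFrom hF ((r : ℕ) + 1) (F := F) ⊆ rootsFrom hF (half D) from
              fun g ⟨k, t, h1, h2, h3⟩ => ⟨k, t, by omega, h2, h3⟩) hym)
            (Subgroup.subset_closure ⟨r, _, hr, r.2, rfl⟩)
        have := borel_inf_upper hF (Subgroup.mem_sup_left hU)
          (negUnipotent_le_upperGroup hF (mem_negUnipotent_of hF (pWord hF w r).2 (not_le.1 hpos) d'))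
        exact absurd ((xG_eq_one_iff hF (pWord hF w r).2).1 this) hd0
  have hw1 : pWord hF w = 1 := weyl_eq_one_of_fix hC hF J hc (pWord_mem hF w) hi
    fun r hr hin => key _ r rfl hr hin
  exact mul_mem (mul_mem hb (Subgroup.mem_sup_right (nWord_mem_diagonal hF w hw1)))
    (uMinus_le_borel hF _ hx)

end Cfsg.Agent.Overgroup
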