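import Cfsg.Agent.Overgroup.Checks
import Cfsg.Agent.Chev.Torus

/-!
The field of parameters of a subgroup containing the root elements with parameter one.
-/

set_option autoImplicit false
set_option linter.unusedSectionVars false

namespace Cfsg.Agent.Overgroup

open Cfsg.Lie Cfsg.Agent.Chev
open scoped MatrixGroups

universe u

variable {D : ChevalleyDatum} {C : Cert} {F : Type u} [Field F]

/-- The parameters in `H` of all root elements form the field `k`. -/
structure IsLevel (hF : Facts.{u} D) (H : Subgroup (GL D.Idx F)) (k : Subfield F) : Prop where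
  mem : ∀ r < D.nroots, ∀ t : F, xG hF r t ∈ H ↔ t ∈ k
  lead : ∀ r < D.nroots, half D ≤ r → ∀ c : F, ∀ h ∈ RF hF (r + 1), xG hF r c * h ∈ H → c ∈ k
  pre : ∀ g ∈ D.posUnipotent F, Pre hF H g → g ∈ H

/-- A finite additive subgroup containing one and closed under products is a field. -/
def subfieldOf [Finite F] (S : AddSubgroup F) (h1 : (1 : F) ∈ S)
    (hmul : ∀ a ∈ S, ∀ b ∈ S, a * b ∈ S) : Subfield F :=
  { S with
    mul_mem' := fun {a b} ha hb => hmul a ha b hb
    one_mem' := h1
    inv_mem' := fun a ha => by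
      classical
      have : Fintype F := Fintype.ofFinite F
      by_cases h0 : a = 0
      · subst h0; rw [inv_zero]; exact S.zero_mem
      have hp : ∀ n : ℕ, a ^ n ∈ S := by
        intro n
        induction n with
        | zero => rw [pow_zero]; exact h1
        | succ n ih => rw [pow_succ]; exact hmul _ ih _ ha
      have hc := FiniteField.pow_card_sub_one_eq_one a h0
      have h2 : 2 ≤ Fintype.card F := Fintype.one_lt_card
      rw [show Fintype.card F - 1 = (Fintype.card F - 2) + 1 by omega, pow_succ] at hc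
      rw [← eq_inv_of_mul_eq_one_left hc]
      exact hp _ }

theorem mem_subfieldOf [Finite F] {S : AddSubgroup F} (h1 : (1 : F) ∈ S)
    (hmul : ∀ a ∈ S, ∀ b ∈ S, a * b ∈ S) {a : F} : a ∈ subfieldOf S h1 hmul ↔ a ∈ S := Iff.rfl

theorem mem_of_pow_mem [Finite F] (p : ℕ) [Fact p.Prime] [CharP F p] {k : Subfield F} {c : F}
    (h : c ^ p ∈ k) : c ∈ k := by
  let f : k → k := fun x => ⟨(x : F) ^ p, Subfield.pow_mem _ x.2 _⟩
  have hf : Function.Injective f := fun x y e => Subtype.ext
    (frobenius_inj F p (by simpa [frobenius_def, f] using congrArg Subtype.val e))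
  obtain ⟨x, hx⟩ := (Finite.injective_iff_surjective.1 hf) ⟨c ^ p, h⟩
  have := frobenius_inj F p (show frobenius F p x = frobenius F p c by
    simpa [frobenius_def, f] using congrArg Subtype.val hx)
  exact this ▸ x.2

variable (hF : Facts.{u} D) {H : Subgroup (GL D.Idx F)}
  (h1 : ∀ s < D.nroots, xG hF s (1 : F) ∈ H) (hC : Checks D C)
include h1 hC

theorem A_long {r : ℕ} (hr : r < D.nroots) (hl : lngB D C r = true) :
    A hF H r = A hF H (D.nroots - 1) := by
  rw [← A_follow hF hC h1 D.nroots r hr, Nat.eq_of_beq_eq_true hl, A_follow hF hC h1 _ _ (by omega)]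

theorem A_short {S : ℕ} (h2 : chkTwo D C S = true) {r : ℕ} (hr : r < D.nroots)
    (hl : lngB D C r = false) : A hF H r = A hF H S := by
  simp only [chkTwo, Bool.and_eq_true, allBelow_iff, Bool.or_eq_true, nblt_iff, nbeq_iff] at h2
  obtain ⟨⟨-, hS⟩, h3⟩ := h2
  rcases h3 r hr with e | e
  · rw [hl] at e; exact Bool.noConfusion e
  · rw [← A_follow hF hC h1 D.nroots r hr, e, A_follow hF hC h1 _ _ hS]

/-- The parameters of the long roots form a field, by a subsystem of type `A₂`. -/
theorem mul_mem_of_A2 (hA : chkA2 D C = true) : ∀ a ∈ A hF H (D.nroots - 1),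
    ∀ b ∈ A hF H (D.nroots - 1), a * b ∈ A hF H (D.nroots - 1) := by
  intro a ha b hb
  simp only [chkA2, List.any_eq_true, List.mem_range, Bool.and_eq_true] at hA
  obtain ⟨r, hr, hlr, s, hs, hls, hm⟩ := hA
  rcases e : C.cTerms D r s with _ | ⟨⟨u, N, i, j⟩, _ | ⟨y, rest⟩⟩ <;> rw [e] at hm
  · simp at hm
  · simp only [Bool.and_eq_true, nbeq_iff] at hm
    obtain ⟨⟨⟨hlu, hN⟩, rfl⟩, rfl⟩ := hm
    obtain ⟨n1, n2⟩ := ne_of_terms hC hr hs e
    rw [← commTerms_eq hC] at e
    have hu : u < D.nroots := hF.comm_lt r s hr hs _ (by rw [e]; exact List.mem_cons_self)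
    have hw := conj_word hF hr hs n1 n2 a b (F := F)
    rw [ChevalleyDatum.commWord, e, List.map_cons, List.map_nil, wordG_cons,
      show wordG hF ([] : List (ℕ × F)) = 1 from rfl, mul_one] at hw
    have hxa : xG hF r a ∈ H := (mem_A hF).1 (by rwa [A_long hF h1 hC hr hlr])
    have hxb : xG hF s b ∈ H := (mem_A hF).1 (by rwa [A_long hF h1 hC hs hls])
    have hm : xG hF u ((N : F) * (a * b)) ∈ H := by
      have := H.mul_mem (H.inv_mem hxb) (H.mul_mem (H.mul_mem hxa hxb) (H.inv_mem hxa))
      rw [hw, inv_mul_cancel_left] at this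
      simpa [mul_assoc] using this
    rw [← A_long hF h1 hC hu hlu, mem_A hF]
    rcases Int.natAbs_eq N with h | h <;> rw [hN] at h <;> subst h
    · simpa using hm
    · rw [← inv_mem_iff, xG_inv]; simpa using hm
  · simp at hm

/-- The long torus puts the field of long parameters into the parameters of a short root. -/
theorem le_A_of_torus (hT : chkTorus D C = true) {k : Subfield F}
    (hk : k.toAddSubgroup = A hF H (D.nroots - 1)) {r : ℕ} (hr : r < D.nroots) :
    k.toAddSubgroup ≤ A hF H r := by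
  simp only [chkTorus, allBelow_iff, Bool.or_eq_true, List.any_eq_true, List.mem_range,
    Bool.and_eq_true, nbeq_iff] at hT
  rcases hT r hr with hl | ⟨l, hl, ⟨hll, hln⟩, hpair⟩
  · rw [A_long hF h1 hC hr hl, hk]
  intro t ht
  by_cases ht0 : t = 0
  · subst ht0; exact zero_mem _
  have hneg : D.neg l = negN D l := by rw [Chev.neg_eq hC hl, negN_eq]
  have hmem : ∀ z ∈ k, xG hF l z ∈ H ∧ xG hF (D.neg l) z ∈ H := fun z hz => by
    have hz' : z ∈ A hF H (D.nroots - 1) := hk ▸ hz
    refine ⟨(mem_A hF).1 (by rwa [A_long hF h1 hC hl hll]), (mem_A hF).1 ?_⟩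
    rwa [A_long hF h1 hC (neg_lt hF hl) (hneg ▸ hln)]
  have hn : ∀ z ∈ k, nG hF l z ∈ H := fun z hz =>
    H.mul_mem (H.mul_mem (hmem z hz).1 (hmem _ (neg_mem (inv_mem hz))).2) (hmem z hz).1
  have hh : ∀ z : Fˣ, (z : F) ∈ k → (torusHom (coH l z) : GL D.Idx F) ∈ H := fun z hz => by
    rw [← hG_eq_torus hF hl]
    exact H.mul_mem (hn _ hz) (hn _ (neg_mem (one_mem _)))
  set m : ℤ := pairing D l r with hm
  have hm1 : m.natAbs = 1 := by
    rw [hm, pairing]
    rw [list_range_map_sum] at hpair
    rw [← hpair]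
    congr 1
    exact Finset.sum_congr rfl fun j _ => by
      rw [coef_eq hC j.2 hl, cartan_eq hC j.2 hr]; rfl
  have hchi : ∀ z : Fˣ, (chiU (coH l z : Fin D.rank → Fˣ) r : Fˣ) = z ^ m := fun z => by
    simp only [chiU, coH, MonoidHom.coe_mk, OneHom.coe_mk, ← zpow_mul]
    rw [hm, pairing]
    exact (map_sum (AddMonoidHom.mk' (fun n : ℤ => Additive.ofMul (z ^ n))
      (fun a b => by rw [zpow_add]; rfl)) _ _).symm
  have hscale : ∀ z : Fˣ, (z : F) ∈ k → ((z ^ m : Fˣ) : F) ∈ A hF H r := fun z hz => by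
    rw [mem_A hF, ← hchi]
    have e := torusHom_conj hF (coH l z) hr (1 : F)
    rw [mul_one] at e
    rw [show xG hF r (chiU (coH l z : Fin D.rank → Fˣ) r : F) =
      torusHom (coH l z) * xG hF r 1 * (torusHom (coH l z))⁻¹ by rw [e, mul_inv_cancel_right]]
    exact H.mul_mem (H.mul_mem (hh z hz) (h1 r hr)) (H.inv_mem (hh z hz))
  rcases Int.natAbs_eq m with e | e <;> rw [hm1] at e <;> rw [e] at hscale
  · simpa using hscale (Units.mk0 t ht0) ht
  · simpa using hscale (Units.mk0 t⁻¹ (inv_ne_zero ht0)) (inv_mem (show t ∈ k from ht))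

variable [Finite F] (p : ℕ) [Fact p.Prime] [CharP F p] {q : ℕ} (hq : Stands p q)
include hq

/-- With a step at every positive root, the leading parameters lie in those of the last root. -/
theorem leadLe_top (hS : chkAllSteps D C q = true) : ∀ r, r < D.nroots → half D ≤ r →
    LeadLe hF H r (A hF H (D.nroots - 1)) := by
  simp only [chkAllSteps, allBelow_iff, Bool.or_eq_true, nblt_iff, List.any_eq_true,
    List.mem_range] at hS
  intro r
  induction hd : D.nroots - r using Nat.strong_induction_on generalizing r with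
  | _ d ih =>
    intro hr hp c h hh hm
    by_cases htop : r + 1 = D.nroots
    · rw [RF_top hF (by omega), Subgroup.mem_bot] at hh
      subst hh
      rw [mul_one] at hm
      rwa [show D.nroots - 1 = r by omega, mem_A hF]
    rcases hS r hr with e | ⟨s, hs, e⟩
    · omega
    obtain ⟨N, st⟩ := step_of_chk hC hq hr hp hs e
    refine mem_of_unit_mul hF p st.unit (transfer' hF h1 st ?_ hh (Pre.of_mem hF h1 hm))
    refine ih _ ?_ _ rfl st.lt_u st.pos_u
    have := st.lt hF htop
    omega

/-- The parameters of the roots of a `B₂` pair form a field. -/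
theorem field_of_B2 (hS : chkAllSteps D C q = true) (hB : chkB2Pair D C = true) {S : ℕ}
    (h2 : chkTwo D C S = true) :
    (∀ r < D.nroots, A hF H r = A hF H (D.nroots - 1)) ∧ ∀ a ∈ A hF H (D.nroots - 1),
      ∀ b ∈ A hF H (D.nroots - 1), a * b ∈ A hF H (D.nroots - 1) := by
  simp only [chkB2Pair, List.any_eq_true, List.mem_range, Bool.and_eq_true] at hB
  obtain ⟨r, hr, s, hs, hls, hm⟩ := hB
  rcases e : C.cTerms D r s with _ | ⟨⟨u, N, i, j⟩, _ | ⟨⟨v, M, i', j'⟩, _ | ⟨y, rest⟩⟩⟩ <;>
    rw [e] at hm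
  · simp at hm
  · simp at hm
  · simp only [Bool.and_eq_true, nbeq_iff, nble_iff, nblt_iff, Bool.not_eq_true'] at hm
    obtain ⟨⟨⟨⟨⟨⟨⟨⟨hup, huv⟩, hlu⟩, hlv⟩, hN⟩, hM⟩, rfl⟩, rfl⟩, rfl⟩ := hm
    obtain ⟨n1, n2⟩ := ne_of_terms hC hr hs e
    rw [← commTerms_eq hC] at e
    have hu : u < D.nroots := hF.comm_lt r s hr hs _ (by rw [e]; exact List.mem_cons_self)
    have hv : v < D.nroots := hF.comm_lt r s hr hs (v, M, i', 1)
      (by rw [e]; exact List.mem_cons_of_mem _ List.mem_cons_self)
    set top := A hF H (D.nroots - 1) with htop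
    have hunit : ∀ {N : ℤ} {S : AddSubgroup F} {c : F}, N.natAbs = 1 → (N : F) * c ∈ S → c ∈ S := by
      intro N S c hN hc
      rcases Int.natAbs_eq N with h | h <;> rw [hN] at h <;> subst h <;> simpa using hc
    have key : ∀ c, c ∈ A hF H r → ∀ b ∈ top,
        xG hF u ((N : F) * (c * b)) * xG hF v ((M : F) * (c ^ i' * b)) ∈ H := by
      intro c hc b hb
      have hw := conj_word hF hr hs n1 n2 c b (F := F)
      rw [ChevalleyDatum.commWord, e, List.map_cons, List.map_cons, List.map_nil, wordG_cons,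
        wordG_cons, show wordG hF ([] : List (ℕ × F)) = 1 from rfl, mul_one] at hw
      have hxb : xG hF s b ∈ H := (mem_A hF).1 (by rwa [A_long hF h1 hC hs hls])
      have := H.mul_mem (H.inv_mem hxb) (H.mul_mem (H.mul_mem ((mem_A hF).1 hc) hxb)
        (H.inv_mem ((mem_A hF).1 hc)))
      rw [hw, inv_mul_cancel_left] at this
      simpa [mul_assoc] using this
    have hone : (1 : F) ∈ A hF H r := (mem_A hF).2 (h1 r hr)
    have h1' : ∀ b ∈ top, b ∈ A hF H u := by
      intro b hb
      have := key 1 hone b hb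
      rw [one_pow, one_mul] at this
      have hvb : xG hF v ((M : F) * b) ∈ H :=
        (mem_A hF).1 (by rw [A_long hF h1 hC hv hlv]; exact mul_int_mem hF M hb)
      refine hunit hN ((mem_A hF).2 ?_)
      have := H.mul_mem this (H.inv_mem hvb)
      rwa [mul_inv_cancel_right] at this
    have hupper : A hF H u ≤ top := fun b hb =>
      leadLe_top hF h1 hC p hq hS u hu hup b 1 (one_mem _) (by rw [mul_one]; exact (mem_A hF).1 hb)
    have hu_eq : A hF H u = top := le_antisymm hupper h1'
    have hall : ∀ r < D.nroots, A hF H r = top := fun r hr => by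
      cases hl : lngB D C r with
      | true => exact A_long hF h1 hC hr hl
      | false => rw [A_short hF h1 hC h2 hr hl, ← A_short hF h1 hC h2 hu hlu, hu_eq]
    refine ⟨hall, fun a ha b hb => hunit hN ?_⟩
    exact leadLe_top hF h1 hC p hq hS u hu hup _ _
      (xG_mem_RF hF huv hv _) (key a (by rwa [hall r hr]) b hb)
  · simp at hm

theorem pre_of_allSteps (hS : chkAllSteps D C q = true) {k : Subfield F}
    (hmem : ∀ r < D.nroots, ∀ t : F, xG hF r t ∈ H ↔ t ∈ k)
    (hlead : ∀ r < D.nroots, half D ≤ r → LeadLe hF H r k.toAddSubgroup) :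
    ∀ g ∈ D.posUnipotent F, Pre hF H g → g ∈ H := by
  simp only [chkAllSteps, allBelow_iff, Bool.or_eq_true, nblt_iff, List.any_eq_true,
    List.mem_range] at hS
  suffices key : ∀ j, half D ≤ j → ∀ g ∈ RF hF j, Pre hF H g → g ∈ H from
    fun g hg hp => key (half D) le_rfl g (by rwa [posUnipotent_eq hF] at hg) hp
  intro j
  induction hd : D.nroots - j using Nat.strong_induction_on generalizing j with
  | _ d ih =>
    intro hj g hg hp
    by_cases hjn : D.nroots ≤ j
    · rw [RF_top hF hjn, Subgroup.mem_bot] at hg; rw [hg]; exact H.one_mem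
    obtain ⟨c, h, hh, rfl⟩ := exists_head hF hj (by omega) hg
    rcases hS j (by omega) with e | ⟨s, hs, e⟩
    · omega
    obtain ⟨N, st⟩ := step_of_chk hC hq (by omega) hj hs e
    have hc := mem_of_unit_mul hF p st.unit
      (transfer' hF h1 st (hlead _ st.lt_u st.pos_u) hh hp)
    have hx : xG hF j c ∈ H := (hmem j (by omega) c).2 hc
    refine H.mul_mem hx (ih _ (by omega) (j + 1) rfl (by omega) h hh ?_)
    have := Pre.mul_left hF (H.inv_mem hx) hp
    rwa [inv_mul_cancel_left] at this

theorem level_of_allSteps_field (hS : chkAllSteps D C q = true)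
    (hall : ∀ r < D.nroots, A hF H r = A hF H (D.nroots - 1))
    (hmul : ∀ a ∈ A hF H (D.nroots - 1), ∀ b ∈ A hF H (D.nroots - 1),
      a * b ∈ A hF H (D.nroots - 1)) :
    ∃ k : Subfield F, IsLevel hF H k := by
  have hn : D.nroots - 1 < D.nroots := by
    have := hF.simple_lt 0 hF.rank_pos; omega
  set k := subfieldOf (A hF H (D.nroots - 1)) ((mem_A hF).2 (h1 _ hn)) hmul with hk
  have hmem : ∀ r < D.nroots, ∀ t : F, xG hF r t ∈ H ↔ t ∈ k := fun r hr t => by
    rw [hk, mem_subfieldOf, ← hall r hr, mem_A hF]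
  have hlead : ∀ r < D.nroots, half D ≤ r → LeadLe hF H r k.toAddSubgroup :=
    leadLe_top hF h1 hC p hq hS
  exact ⟨k, hmem, hlead, pre_of_allSteps hF h1 hC p hq hS hmem hlead⟩

/-- The general case. -/
theorem level_generic (hS : chkAllSteps D C q = true) (hA : chkA2 D C = true)
    (hT : chkTorus D C = true) {S : ℕ} (h2 : chkTwo D C S = true) :
    ∃ k : Subfield F, IsLevel hF H k := by
  have hn : D.nroots - 1 < D.nroots := by
    have := hF.simple_lt 0 hF.rank_pos; omega
  have hmul := mul_mem_of_A2 hF h1 hC hA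
  set k := subfieldOf (A hF H (D.nroots - 1)) ((mem_A hF).2 (h1 _ hn)) hmul with hk
  have h2' := h2
  simp only [chkTwo, Bool.and_eq_true, nble_iff, nblt_iff] at h2'
  refine level_of_allSteps_field hF h1 hC p hq hS (fun r hr => ?_) hmul
  refine le_antisymm ?_ (le_A_of_torus hF h1 hC hT (k := k) rfl hr)
  cases hl : lngB D C r with
  | true => rw [A_long hF h1 hC hr hl]
  | false =>
    rw [A_short hF h1 hC h2 hr hl]
    intro c hc
    exact leadLe_top hF h1 hC p hq hS S h2'.1.2 h2'.1.1 c 1 (one_mem _)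
      (by rw [mul_one]; exact (mem_A hF).1 hc)

/-- The case of a subsystem of type `B₂` in odd characteristic. -/
theorem level_B2 (hS : chkAllSteps D C q = true) (hB : chkB2Pair D C = true) {S : ℕ}
    (h2 : chkTwo D C S = true) : ∃ k : Subfield F, IsLevel hF H k :=
  level_of_allSteps_field hF h1 hC p hq hS (field_of_B2 hF h1 hC p hq hS hB h2).1
    (field_of_B2 hF h1 hC p hq hS hB h2).2

end Cfsg.Agent.Overgroup
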