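import Cfsg.Agent.Overgroup.Checks

/-!
Kernel checks of the facts used about pairs of long root elements.
-/

set_option autoImplicit false
set_option linter.unusedSectionVars false

namespace Cfsg.Agent.Overgroup

open Cfsg.Lie Cfsg.Agent.Chev

universe u

variable (D : ChevalleyDatum) (C : Cert)

/-- The root subgroups commute, by the tables. -/
noncomputable def comB (r s : ℕ) : Bool := !Nat.beq s (negN D r) && (C.cTerms D r s).isEmpty

/-- The pairing of two roots is odd. -/
noncomputable def oddB (r s : ℕ) : Bool :=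
  Nat.beq (Nat.mod ((List.range D.rank).map fun j => Int.mul (C.cR r j) (C.cA j s)).sum.natAbs 2) 1

/-- The orbit of the last root is closed under the fundamental reflections. -/
noncomputable def chkClosed : Bool :=
  allBelow (fun i => allBelow (fun r => lngB D C (C.cW i r) == lngB D C r) D.nroots) D.rank

/-- A long root and the last root generate a group of class at most two, unless opposite. -/
noncomputable def chkLongPairs : Bool :=
  allBelow (fun r => !lngB D C r || Nat.beq r 0 || Nat.beq r (D.nroots - 1) ||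
    match C.cTerms D (D.nroots - 1) r with
    | [] => true
    | [a] => comB D C (D.nroots - 1) a.1 && comB D C r a.1
    | _ => false) D.nroots

/-- The remaining facts about the last root. -/
noncomputable def chkLongMisc : Bool :=
  lngB D C 0 &&
  ((List.range D.rank).any fun i =>
    Nat.ble (half D) (C.cW i (D.nroots - 1)) && !Nat.beq (C.cW i (D.nroots - 1)) (D.nroots - 1)) &&
  ((List.range D.nroots).any fun r => Nat.ble (half D) r && !Nat.beq r (D.nroots - 1) &&
    comB D C (D.nroots - 1) r && comB D C 0 r) &&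
  allBelow (fun r => Nat.blt r (half D) || Nat.beq r (D.nroots - 1) || oddB D C (D.nroots - 1) r ||
    (comB D C (D.nroots - 1) r && comB D C 0 r)) D.nroots &&
  ((List.range D.nroots).any fun r => oddB D C (D.nroots - 1) r) &&
  ((List.range D.rank).any fun i => lngB D C (D.simple i) &&
    (List.range D.rank).any fun j => zbeq (C.cA i (D.simple j)) (-1))

/-- All the checks on pairs of long roots. -/
noncomputable def chkLong : Bool := chkClosed D C && chkLongPairs D C && chkLongMisc D C

/-- The facts about pairs of long roots. -/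
structure LongFacts (hF : Facts.{u} D) : Prop where
  closed : ∀ i < D.rank, ∀ r < D.nroots, lngB D C r = true → lngB D C (D.reflectRoot i r) = true
  zero : lngB D C 0 = true
  orbit : ∀ r : Fin D.nroots, lngB D C r = true →
    ∃ w : List (Fin D.rank), pWord hF w r = topRoot hF
  pairs : ∀ r < D.nroots, lngB D C r = true → r ≠ 0 → r ≠ D.nroots - 1 →
    r ≠ D.neg (D.nroots - 1) ∧ (D.commTerms (D.nroots - 1) r = [] ∨
      ∃ a, D.commTerms (D.nroots - 1) r = [a] ∧ commutesChk D (D.nroots - 1) a.1 = true ∧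
        commutesChk D r a.1 = true)
  move : ∃ i : Fin D.rank, half D ≤ D.reflectRoot i (D.nroots - 1) ∧
    D.reflectRoot i (D.nroots - 1) ≠ D.nroots - 1
  aside : ∃ r < D.nroots, half D ≤ r ∧ r ≠ D.nroots - 1 ∧
    commutesChk D (D.nroots - 1) r = true ∧ commutesChk D 0 r = true
  split : ∀ r < D.nroots, half D ≤ r → r ≠ D.nroots - 1 → Odd (pairing D (D.nroots - 1) r) ∨
    (commutesChk D (D.nroots - 1) r = true ∧ commutesChk D 0 r = true)
  odd : ∃ r < D.nroots, Odd (pairing D (D.nroots - 1) r)
  simple : ∃ i j : Fin D.rank, lngB D C (D.simple i) = true ∧ D.cartan i (D.simple j) = -1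

variable {D C}

theorem commutesChk_of_comB (hC : Checks D C) {r s : ℕ} (hr : r < D.nroots)
    (h : comB D C r s = true) : commutesChk D r s = true := by
  simp only [comB, Bool.and_eq_true, Bool.not_eq_true', nbeq_false_iff] at h
  simp only [commutesChk, Bool.or_eq_true, Bool.and_eq_true, decide_eq_true_eq]
  refine Or.inr ⟨?_, ?_⟩
  · rw [Chev.neg_eq hC hr, ← negN_eq]; exact h.1
  · rw [commTerms_eq hC]; exact h.2

theorem odd_of_oddB (hC : Checks D C) {r s : ℕ} (hr : r < D.nroots) (hs : s < D.nroots)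
    (h : oddB D C r s = true) : Odd (pairing D r s) := by
  simp only [oddB, nbeq_iff, list_range_map_sum] at h
  rw [← Int.natAbs_odd, Nat.odd_iff, pairing]
  refine Eq.trans ?_ h
  congr 2
  exact Finset.sum_congr rfl fun j _ => by rw [coef_eq hC j.2 hr, cartan_eq hC j.2 hs]; rfl

theorem exists_weyl_follow (hC : Checks D C) (hF : Facts.{u} D) :
    ∀ k, ∀ r : Fin D.nroots, ∃ w : List (Fin D.rank), (pWord hF w r : ℕ) = C.follow k r := by
  intro k
  induction k with
  | zero => exact fun r => ⟨[], rfl⟩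
  | succ k ih =>
    intro r
    rw [show C.follow (k + 1) r =
      force (r : ℕ) fun r => cond (C.isRep r) r (C.follow k (C.cW (C.stepI r) r)) from rfl, force_eq]
    cases hrep : C.isRep r with
    | true => exact ⟨[], rfl⟩
    | false =>
      obtain ⟨hi, -⟩ := stepI_spec hC r.2 hrep
      obtain ⟨hw, hwlt, -⟩ := refl_split hC hi r.2
      obtain ⟨w, e⟩ := ih ⟨_, hwlt⟩
      refine ⟨w ++ [⟨_, hi⟩], ?_⟩
      rw [cond_false, ← e, pWord_append, Equiv.Perm.mul_apply]
      exact congrArg (fun s => (pWord hF w s : ℕ)) (Fin.ext hw)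

theorem longFacts (hC : Checks D C) (hF : Facts.{u} D) (h : chkLong D C = true) :
    LongFacts.{u} D C hF := by
  simp only [chkLong, chkClosed, chkLongPairs, chkLongMisc, Bool.and_eq_true, Bool.or_eq_true,
    allBelow_iff, List.any_eq_true, List.mem_range, nbeq_iff, nblt_iff, nble_iff, beq_iff_eq,
    Bool.not_eq_true', nbeq_false_iff] at h
  obtain ⟨⟨hcl, hpairs⟩, ⟨⟨⟨⟨h0, hmove⟩, hr0⟩, hsplit⟩, hodd⟩, hsim⟩ := h
  have htop : D.nroots - 1 < D.nroots := top_lt hF
  have h0lt : 0 < D.nroots := lt_of_le_of_lt (Nat.zero_le _) htop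
  refine ⟨fun i hi r hr hl => ?_, h0, fun r hl => ?_, fun r hr hl hr0 hrT => ?_, ?_, ?_, ?_, ?_, ?_⟩
  · rw [(refl_split hC hi hr).1, hcl i hi r hr]; exact hl
  · obtain ⟨w₁, e₁⟩ := exists_weyl_follow hC hF D.nroots r
    obtain ⟨w₂, e₂⟩ := exists_weyl_follow hC hF D.nroots (topRoot hF)
    obtain ⟨w, hw⟩ := exists_pWord hF
      (Subgroup.mul_mem _ (Subgroup.inv_mem _ (pWord_mem hF w₂)) (pWord_mem hF w₁))
    refine ⟨w, ?_⟩
    have e : pWord hF w₁ r = pWord hF w₂ (topRoot hF) :=
      Fin.ext (e₁.trans ((Nat.eq_of_beq_eq_true hl).trans e₂.symm))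
    rw [hw, Equiv.Perm.mul_apply, e, ← Equiv.Perm.mul_apply, inv_mul_cancel, Equiv.Perm.one_apply]
  · have hneg : D.neg (D.nroots - 1) = 0 := by rw [Chev.neg_eq hC htop]; omega
    refine ⟨by rw [hneg]; exact hr0, ?_⟩
    rcases hpairs r hr with ((e | e) | e) | e
    · rw [hl] at e; exact Bool.noConfusion e
    · exact absurd e hr0
    · exact absurd e hrT
    · rw [commTerms_eq hC]
      split at e
      · rename_i e'; exact Or.inl e'
      · rename_i a e'
        rw [Bool.and_eq_true] at e
        exact Or.inr ⟨a, e', commutesChk_of_comB hC htop e.1, commutesChk_of_comB hC hr e.2⟩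
      · exact Bool.noConfusion e
  · obtain ⟨i, hi, h1, h2⟩ := hmove
    refine ⟨⟨i, hi⟩, ?_⟩
    rw [(refl_split hC hi htop).1]
    exact ⟨h1, h2⟩
  · obtain ⟨r, hr, ⟨⟨h1, h2⟩, h3⟩, h4⟩ := hr0
    exact ⟨r, hr, h1, h2, commutesChk_of_comB hC htop h3, commutesChk_of_comB hC h0lt h4⟩
  · intro r hr hp hne
    rcases hsplit r hr with ((e | e) | e) | e
    · omega
    · exact absurd e hne
    · exact Or.inl (odd_of_oddB hC htop hr e)
    · exact Or.inr ⟨commutesChk_of_comB hC htop e.1, commutesChk_of_comB hC h0lt e.2⟩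
  · obtain ⟨r, hr, e⟩ := hodd
    exact ⟨r, hr, odd_of_oddB hC htop hr e⟩
  · obtain ⟨i, hi, hl, j, hj, e⟩ := hsim
    refine ⟨⟨i, hi⟩, ⟨j, hj⟩, hl, ?_⟩
    rw [cartan_eq hC hi (simple_split hC hj).1]
    exact zbeq_iff.1 e

end Cfsg.Agent.Overgroup
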