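import Cfsg.Agent.Overgroup.LongCheck
import Cfsg.Agent.Overgroup.Fixed
import Cfsg.Agent.Chev.SL2Fixed
import Cfsg.Agent.RootSub.Dickson.Defs

/-!
The homomorphism of `SL₂` given by the last root and its negative, and pairs of long root elements.
-/

set_option autoImplicit false
set_option linter.unusedSectionVars false

namespace Cfsg.Agent.Overgroup

open Cfsg.Lie Cfsg.Agent.Chev
open scoped MatrixGroups

universe u

variable {D : ChevalleyDatum} {C : Cert} {F : Type u} [Field F] (hF : Facts.{u} D)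
include hF

theorem xG_pow (r : ℕ) (t : F) : ∀ m : ℕ, xG hF r t ^ m = xG hF r ((m : F) * t) := by
  intro m
  induction m with
  | zero => rw [pow_zero, Nat.cast_zero, zero_mul, xG_zero]
  | succ m ih => rw [pow_succ, ih, xG_mul, Nat.cast_succ, add_mul, one_mul]

theorem xG_prime_pow (p : ℕ) [CharP F p] (r : ℕ) (t : F) : xG hF r t ^ p = 1 := by
  rw [xG_pow, CharP.cast_eq_zero, zero_mul, xG_zero]

theorem conj_pow_prime (p : ℕ) [CharP F p] (g : GL D.Idx F) (r : ℕ) (t : F) :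
    (g * xG hF r t * g⁻¹) ^ p ^ 1 = 1 := by
  rw [pow_one, conj_pow, xG_prime_pow, mul_one, mul_inv_cancel]

theorem xG_conj_ne_one {r : ℕ} (hr : r < D.nroots) {t : F} (ht : t ≠ 0) (g : GL D.Idx F) :
    g * xG hF r t * g⁻¹ ≠ 1 := fun e =>
  ht ((xG_eq_one_iff hF hr).1 (conj_eq_one_iff.1 e))

theorem lngB_pWord (L : LongFacts.{u} D C hF) (w : List (Fin D.rank)) (r : Fin D.nroots)
    (hl : lngB D C r = true) : lngB D C (pWord hF w r) = true :=
  weyl_closed hF (L := fun s => lngB D C s = true) L.closed w r hl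

theorem lngB_top : lngB D C (D.nroots - 1) = true := Nat.beq_refl _

/-- A monomial element moving a root, with the parameters of the image. -/
theorem nWord_conj (w : List (Fin D.rank)) (r : Fin D.nroots) :
    ∃ d : F, d ≠ 0 ∧ (∀ τ : F →+* F, τ d = d) ∧
      ∀ t, nWord hF w * xG hF r t * (nWord hF w)⁻¹ = xG hF (pWord hF w r : ℕ) (d * t) := by
  obtain ⟨d, hd0, hd⟩ := isMon_nWord hF w (F := F) r
  have e : ∀ t, nWord hF w * xG hF r t * (nWord hF w)⁻¹ = xG hF (pWord hF w r : ℕ) (d * t) :=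
    fun t => by rw [hd, mul_inv_cancel_right]
  refine ⟨d, hd0, fun τ => ?_, e⟩
  have e1 := congrArg (gmap D τ) (e 1)
  rw [map_mul, map_mul, map_inv, gmap_xG hF hF, gmap_xG hF hF, map_one, gmap_nWord hF hF, e,
    mul_one] at e1
  refine (sub_eq_zero.1 ((xG_eq_one_iff hF (pWord hF w r).2).1 ?_)).symm
  rw [sub_eq_add_neg, ← xG_mul, ← xG_inv, e1, mul_inv_cancel]

/-- The homomorphism of the last root and its negative. -/
theorem exists_top_hom (L : LongFacts.{u} D C hF) :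
    ∃ ψ : SL(2, F) →* GL D.Idx F, ∃ d d' : F,
      (∀ τ : F →+* F, τ d = d ∧ τ d' = d') ∧ d ≠ 0 ∧ d' ≠ 0 ∧ Function.Injective ψ ∧
      (∀ t, ψ (RootSub.Dickson.upR t) = xG hF (D.nroots - 1) (d * t)) ∧
      (∀ t, ψ (RootSub.Dickson.lowR t) = xG hF 0 (d' * t)) ∧
      (∀ σ : F →+* F, ψ (-1) ∈ fixedRoots hF σ) ∧ ψ (-1) ∈ D.diagonalSubgroup F ∧
      ∀ r < D.nroots, ∀ t : F, ψ (-1) * xG hF r t * (ψ (-1))⁻¹ =
        xG hF r ((-1 : F) ^ pairing D (D.nroots - 1) r * t) := by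
  obtain ⟨i, j, hl, hj⟩ := L.simple
  obtain ⟨w, hw⟩ := L.orbit (sRoot hF i) hl
  have hinj := sl2Simple_injective hF i j hj (F := F)
  set n := (nWord hF w : GL D.Idx F) with hn
  let ψ : SL(2, F) →* GL D.Idx F := (MulAut.conj n).toMonoidHom.comp (sl2Simple hF i).hom
  have hψ : ∀ m, ψ m = n * (sl2Simple hF i).hom m * n⁻¹ := fun m => rfl
  obtain ⟨d, hd0, hdτ, hd⟩ := nWord_conj hF w (sRoot hF i) (F := F)
  obtain ⟨d', hd0', hdτ', hd'⟩ := nWord_conj hF w (negF hF (sRoot hF i)) (F := F)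
  have htop : (pWord hF w (sRoot hF i) : ℕ) = D.nroots - 1 := by rw [hw]; rfl
  have hbot : (pWord hF w (negF hF (sRoot hF i)) : ℕ) = 0 := by
    rw [pWord_negF, hw]
    show D.neg (D.nroots - 1) = 0
    rw [hF.neg_eq _ (top_lt hF)]
    omega
  set c := coH (D.simple i) (-1 : Fˣ) with hc
  have hne : (-1 : F) ≠ 0 := neg_ne_zero.2 one_ne_zero
  have hm1 : (sl2Simple hF i).hom (-1 : SL(2, F)) = torusHom c := by
    show (sl2Simple hF i).toFun (-1 : SL(2, F)) = _
    simp only [SL2Data.toFun, SL2Data.bruhat, Matrix.SpecialLinearGroup.coe_neg,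
      Matrix.SpecialLinearGroup.coe_one]
    simp [SL2Data.X_zero, SL2Data.h_of_ne (sl2Simple hF i) hne]
    show torusHom (coH (D.simple i) (Units.mk0 (-1 : F) hne)) = torusHom c
    rw [show Units.mk0 (-1 : F) hne = -1 from Units.ext rfl]
  obtain ⟨c', hc'⟩ := nWord_torus hF w c (F := F)
  refine ⟨ψ, d, d', fun τ => ⟨hdτ τ, hdτ' τ⟩, hd0, hd0', ?_, ?_, ?_, ?_, ?_, ?_⟩
  · exact (MulAut.conj n).injective.comp hinj
  · intro t
    rw [hψ, (sl2Simple hF i).hom_upper _ t (RootSub.Dickson.coe_upR t)]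
    show n * xG hF (sRoot hF i : ℕ) t * n⁻¹ = _
    rw [hd, htop]
  · intro t
    rw [hψ, (sl2Simple hF i).hom_lower _ t (RootSub.Dickson.coe_lowR t)]
    show n * xG hF (negF hF (sRoot hF i) : ℕ) t * n⁻¹ = _
    rw [hd', hbot]
  · intro σ
    rw [hψ, hm1, hc]
    refine mul_mem (mul_mem (nWord_mem_fixedRoots hF σ w) ?_)
      (inv_mem (nWord_mem_fixedRoots hF σ w))
    rw [← hG_eq_torus hF (hF.simple_lt i i.2), hG, nG, nG]
    simp only [Units.val_neg, Units.val_one]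
    exact mul_mem (mul_mem (mul_mem (xG_mem_fixedRoots hF σ _ (by simp))
      (xG_mem_fixedRoots hF σ _ (by simp))) (xG_mem_fixedRoots hF σ _ (by simp)))
      (mul_mem (mul_mem (xG_mem_fixedRoots hF σ _ (by simp))
      (xG_mem_fixedRoots hF σ _ (by simp))) (xG_mem_fixedRoots hF σ _ (by simp)))
  · rw [hψ, hm1, hc', mul_inv_cancel_right]
    exact torusHom_mem hF c'
  · intro r hr t
    obtain ⟨s, hs⟩ := (pWord hF w).surjective ⟨r, hr⟩
    obtain ⟨e, he0, -, he⟩ := nWord_conj hF w s (F := F)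
    have hsr : (pWord hF w s : ℕ) = r := by rw [hs]
    have hpair : pairing D (D.nroots - 1) r = D.cartan i s := by
      rw [← pairing_simple hF i s, ← htop, ← hsr]
      exact pairing_pWord hF w (sRoot hF i) s
    have hx : xG hF r t = n * xG hF s (e⁻¹ * t) * n⁻¹ := by
      rw [he, hsr, mul_inv_cancel_left₀ he0]
    have ht := torusHom_conj hF c s.2 (e⁻¹ * t)
    have hchi : (chiU c (s : ℕ) : F) = (-1 : F) ^ pairing D (D.nroots - 1) r := by
      rw [hc, coH_simple hF i.2, chiU_mulSingle i.2, hpair, Units.val_zpow_eq_zpow_val]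
      simp
    rw [hψ, hm1, hx]
    calc n * torusHom c * n⁻¹ * (n * xG hF s (e⁻¹ * t) * n⁻¹) * (n * torusHom c * n⁻¹)⁻¹
        = n * (torusHom c * xG hF s (e⁻¹ * t)) * (torusHom c)⁻¹ * n⁻¹ := by group
      _ = n * xG hF s ((chiU c (s : ℕ) : F) * (e⁻¹ * t)) * n⁻¹ := by rw [ht]; group
      _ = _ := by
        rw [he, hsr, hchi]
        congr 1
        field_simp

/-- A pair of conjugates of `x_top(1)` is conjugate by an element of `B` to a standard pair. -/
theorem pair_form (L : LongFacts.{u} D C hF) {g : GL D.Idx F} (hg : g ∈ D.group F) :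
    ∃ b ∈ D.borelSubgroup F, ∃ ρ : ℕ, ρ < D.nroots ∧ lngB D C ρ = true ∧ ∃ a c : F, a ≠ 0 ∧ c ≠ 0 ∧
      b * xG hF (D.nroots - 1) a * b⁻¹ = xG hF (D.nroots - 1) 1 ∧
      b * xG hF ρ c * b⁻¹ = g * xG hF (D.nroots - 1) 1 * g⁻¹ := by
  obtain ⟨b, hb, w, x, hx, rfl⟩ := exists_normalForm hF hg
  set T := D.nroots - 1 with hT
  have hTlt : T < D.nroots := top_lt hF
  obtain ⟨a, ha⟩ : ∃ a : F, b * xG hF T a * b⁻¹ = xG hF T 1 := by
    have h1 : xG hF T (1 : F) ∈ (D.rootSubgroup F T).map (MulAut.conj b).toMonoidHom := by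
      rw [hT, map_top_borel hF hb]
      exact (mem_rootSubgroup hF).2 ⟨1, rfl⟩
    obtain ⟨y, hy, e⟩ := h1
    obtain ⟨a, rfl⟩ := (mem_rootSubgroup hF).1 hy
    exact ⟨a, e⟩
  have ha0 : a ≠ 0 := fun e => by
    rw [e, xG_zero, mul_one, mul_inv_cancel] at ha
    exact one_ne_zero ((xG_eq_one_iff hF hTlt).1 ha.symm)
  obtain ⟨c, hc0, -, hc⟩ := nWord_conj hF w (topRoot hF) (F := F)
  refine ⟨b, hb, (pWord hF w (topRoot hF) : ℕ), (pWord hF w (topRoot hF)).2,
    lngB_pWord hF L w (topRoot hF) (lngB_top hF), a, c, ha0, hc0, ha, ?_⟩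
  have hxc := top_commute_posUnipotent hF (uMinus_le_posUnipotent hF _ hx) (1 : F)
  rw [show b * nWord hF w * x * xG hF T 1 * (b * nWord hF w * x)⁻¹ =
    b * (nWord hF w * (x * xG hF T 1 * x⁻¹) * (nWord hF w)⁻¹) * b⁻¹ by group,
    show x * xG hF T 1 = xG hF T 1 * x from hxc.eq, mul_inv_cancel_right,
    show nWord hF w * xG hF T 1 * (nWord hF w)⁻¹ = _ from hc 1, mul_one]

/-- The shape of a commutator of the last root and another long root. -/
theorem top_comm (L : LongFacts.{u} D C hF) {ρ : ℕ} (hρ : ρ < D.nroots)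
    (hl : lngB D C ρ = true) (h0 : ρ ≠ 0) (a c : F) :
    ∃ W : GL D.Idx F, xG hF (D.nroots - 1) a * xG hF ρ c * (xG hF (D.nroots - 1) a)⁻¹ =
        xG hF ρ c * W ∧ Commute W (xG hF (D.nroots - 1) a) ∧ Commute W (xG hF ρ c) ∧
      ∀ p : ℕ, CharP F p → W ^ p = 1 := by
  set T := D.nroots - 1 with hT
  have hTlt : T < D.nroots := top_lt hF
  by_cases hρT : ρ = T
  · subst hρT
    refine ⟨1, ?_, Commute.one_left _, Commute.one_left _, fun p _ => one_pow p⟩
    rw [mul_one, xG_inv, xG_mul, xG_mul]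
    congr 1
    ring
  obtain ⟨hne, hterms⟩ := L.pairs ρ hρ hl h0 hρT
  have e := conj_word hF hTlt hρ hρT hne a c
  rw [ChevalleyDatum.commWord] at e
  rcases hterms with ht | ⟨u, ht, h1, h2⟩
  · rw [ht] at e
    exact ⟨1, e, Commute.one_left _, Commute.one_left _, fun p _ => one_pow p⟩
  · have hu : u.1 < D.nroots := hF.comm_lt T ρ hTlt hρ u (by rw [ht]; exact List.mem_cons_self)
    rw [ht, List.map_cons, List.map_nil, wordG_cons,
      show wordG hF ([] : List (ℕ × F)) = 1 from rfl, mul_one] at e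
    exact ⟨_, e, commute_of_chk hF hTlt hu h1 _ _, commute_of_chk hF hρ hu h2 _ _,
      fun p _ => xG_prime_pow hF p _ _⟩

end Cfsg.Agent.Overgroup
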