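import Cfsg.Agent.Overgroup.Upper
import Cfsg.Agent.Overgroup.TopHom
import Cfsg.Agent.Classical.DicksonSL

/-!
Long root elements of an overgroup: the easy pairs, and the facts about `SL₂` used for the others.
-/

set_option autoImplicit false
set_option linter.unusedSectionVars false
set_option linter.unusedDecidableInType false

namespace Cfsg.Agent.Overgroup

open Cfsg.Lie Cfsg.Agent.Chev
open Cfsg.Agent.RootSub.Dickson (upR lowR coe_upR coe_lowR)
open scoped MatrixGroups

universe u

theorem neg_one_ne_one_sl {R : Type u} [Field R] (h2 : (2 : R) ≠ 0) : (-1 : SL(2, R)) ≠ 1 := by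
  intro e
  have := congrArg (fun g : SL(2, R) => g.1 0 0) e
  simp at this
  exact h2 (by linear_combination (-1 : R) * this)

/-- Two opposite transvections generate a group containing `-1` in odd characteristic. -/
theorem neg_one_mem_pair {F : Type u} [Field F] [Finite F] (p : ℕ) [Fact p.Prime] [CharP F p]
    (hp : p ≠ 2) {a c : F} (ha : a ≠ 0) (hc : c ≠ 0) :
    (-1 : SL(2, F)) ∈ Subgroup.closure ({lowR c, upR a} : Set SL(2, F)) := by
  have h2 : (2 : F) ≠ 0 := Ring.two_ne_zero (by rwa [ringChar.eq F p])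
  have h2' : (2 : ZMod p) ≠ 0 := Ring.two_ne_zero (by rwa [ringChar.eq (ZMod p) p])
  obtain ⟨s, hs, hr⟩ := Classical.DicksonSL.exists_sl2_pair (F := F) p hp (mul_ne_zero hc ha)
  have hs1 : s (-1) = -1 := by
    have hsq : s (-1) ^ 2 = 1 := by rw [← map_pow, neg_one_sq, map_one]
    refine (Classical.eq_one_or_neg_one_of_sq h2 hsq).resolve_left fun e => neg_one_ne_one_sl h2' ?_
    exact hs (e.trans (map_one s).symm)
  have hmem : (-1 : SL(2, F)) ∈ Subgroup.closure ({lowR (c * a), upR 1} : Set SL(2, F)) :=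
    hr ⟨-1, hs1⟩
  set au : Fˣ := Units.mk0 a ha
  have hmap : Subgroup.closure ({lowR (c * a), upR 1} : Set SL(2, F)) =
      (Subgroup.closure ({lowR c, upR a} : Set SL(2, F))).map (Classical.DicksonSL.scale au) := by
    rw [MonoidHom.map_closure, Set.image_pair]
    show _ = Subgroup.closure {Classical.DicksonSL.scale au (lowR c), Classical.DicksonSL.scale au (upR a)}
    rw [Classical.DicksonSL.scale_lowR, Classical.DicksonSL.scale_upR, Units.val_inv_eq_inv_val,
      show ((au : Fˣ) : F) = a from rfl, mul_inv_cancel₀ ha]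
  rw [hmap] at hmem
  obtain ⟨g, hg, e⟩ := hmem
  change Classical.DicksonSL.scale au g = -1 at e
  have hsq : g ^ 2 = 1 := Classical.DicksonSL.scale_injective au (by rw [map_pow, map_one, e, neg_one_sq])
  rcases Classical.eq_one_or_neg_one_of_sq h2 hsq with h | h
  · rw [h, map_one] at e
    exact absurd e.symm (neg_one_ne_one_sl h2)
  · rwa [← h]

/-- The powers of the product of two opposite transvections in characteristic two. -/
theorem pair_powers {F : Type u} [Field F] [CharP F 2] (a c : F) :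
    ((upR a * lowR c) ^ 3 : SL(2, F)).1 = ((a * c) ^ 2 + 1) • (upR a * lowR c : SL(2, F)).1 +
        (a * c) • (1 : Matrix (Fin 2) (Fin 2) F) ∧
      ((upR a * lowR c) ^ 6 : SL(2, F)).1 =
        (((a * c) ^ 2 + 1) ^ 2 * (a * c)) • (upR a * lowR c : SL(2, F)).1 +
          (((a * c) ^ 2 + 1) ^ 2 + (a * c) ^ 2) • (1 : Matrix (Fin 2) (Fin 2) F) := by
  have two : (2 : F) = 0 := CharTwo.two_eq_zero
  set t := a * c with ht
  set M := (upR a * lowR c : SL(2, F)).1 with hMd
  have hM : M = !![1 + t, a; c, 1] := by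
    rw [hMd, Matrix.SpecialLinearGroup.coe_mul, coe_upR, coe_lowR]
    ext i j
    fin_cases i <;> fin_cases j <;> simp [Matrix.mul_apply, Fin.sum_univ_two, ht]
  have hsq : M ^ 2 = t • M + 1 := by
    rw [pow_two, hM]
    ext i j
    fin_cases i <;> fin_cases j <;> simp [Matrix.mul_apply, Fin.sum_univ_two, ht] <;>
      first
        | linear_combination (a * c) * two
        | linear_combination a * two
        | linear_combination c * two
        | ring
  have h3 : M ^ 3 = (t ^ 2 + 1) • M + t • 1 := by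
    rw [pow_succ, hsq, add_mul, one_mul, smul_mul_assoc, ← pow_two, hsq]
    module
  have h6 : M ^ 6 = ((t ^ 2 + 1) ^ 2 * t) • M + ((t ^ 2 + 1) ^ 2 + t ^ 2) • 1 := by
    rw [show 6 = 3 * 2 from rfl, pow_mul, h3]
    have e : ((t ^ 2 + 1) • M + t • (1 : Matrix (Fin 2) (Fin 2) F)) ^ 2 =
        (t ^ 2 + 1) ^ 2 • M ^ 2 + ((t ^ 2 + 1) * t + (t ^ 2 + 1) * t) • M + t ^ 2 • 1 := by
      rw [pow_two, pow_two M]
      simp only [add_mul, mul_add, smul_mul_assoc, mul_smul_comm, mul_one, one_mul, smul_smul]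
      module
    rw [e, CharTwo.add_self_eq_zero, zero_smul, add_zero, hsq]
    module
  exact ⟨by rw [Matrix.SpecialLinearGroup.coe_pow]; exact h3,
    by rw [Matrix.SpecialLinearGroup.coe_pow]; exact h6⟩

/-- The standard pair in characteristic two has a product of order three. -/
theorem pair_cube {F : Type u} [Field F] [CharP F 2] : (upR (1 : F) * lowR 1) ^ 3 = 1 := by
  apply Subtype.ext
  rw [(pair_powers (1 : F) 1).1, mul_one, one_pow, CharTwo.add_self_eq_zero, zero_smul, zero_add,
    one_smul, Matrix.SpecialLinearGroup.coe_one]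

/-- A pair with product of order dividing six has product of order dividing three. -/
theorem pair_six {F : Type u} [Field F] [CharP F 2] {a c : F} (ha : a ≠ 0) (hc : c ≠ 0)
    (h : (upR a * lowR c) ^ 6 = 1) : (upR a * lowR c) ^ 3 = 1 := by
  obtain ⟨h3, h6⟩ := pair_powers a c
  rw [h, Matrix.SpecialLinearGroup.coe_one] at h6
  have h01 := congrArg (fun X : Matrix (Fin 2) (Fin 2) F => X 0 1) h6
  simp [Matrix.mul_apply, Fin.sum_univ_two, coe_upR, coe_lowR, ha, hc] at h01
  have htone : a * c = 1 := by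
    have h2 : (a * c + 1) ^ 2 = 0 := by rw [CharTwo.add_sq, one_pow]; exact h01
    exact CharTwo.add_eq_zero.1 (pow_eq_zero_iff two_ne_zero |>.1 h2)
  apply Subtype.ext
  rw [h3, htone, one_pow, CharTwo.add_self_eq_zero, zero_smul, zero_add, one_smul,
    Matrix.SpecialLinearGroup.coe_one]

variable {D : ChevalleyDatum} {F : Type u} [Field F] {hF : Facts.{u} D} [Fintype F] {C : Cert}
  {H : Subgroup (GL D.Idx F)} {σ : F →+* F}
  (hD : D ∈ [chevG2, chevB2, chevD4, chevF4, chevE6, chevE7, chevE8])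
  (p : ℕ) [Fact p.Prime] [CharP F p]
include hD p

/-- Only opposite pairs of long root elements can involve an element which is not fixed. -/
theorem Setting.no_pair (S : Setting hF H σ) (hC : Checks D C) (hc : chkLinked D C = true)
    (L : LongFacts.{u} D C hF) {g : GL D.Idx F} (hg : g ∈ D.group F) {ρ : ℕ} (hρ : ρ < D.nroots)
    (hl : lngB D C ρ = true) (h0 : ρ ≠ 0) {a c : F} (ha : a ≠ 0)
    (h1 : g * xG hF (D.nroots - 1) a * g⁻¹ ∈ H)
    (h1' : gmap D σ (g * xG hF (D.nroots - 1) a * g⁻¹) = g * xG hF (D.nroots - 1) a * g⁻¹)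
    (h2 : g * xG hF ρ c * g⁻¹ ∈ H) :
    gmap D σ (g * xG hF ρ c * g⁻¹) = g * xG hF ρ c * g⁻¹ := by
  set T := D.nroots - 1 with hT
  have hTlt : T < D.nroots := top_lt hF
  set z1 := g * xG hF T a * g⁻¹ with hz1
  set x' := g * xG hF ρ c * g⁻¹ with hx'
  have hz1G : z1 ∈ D.group F := mul_mem (mul_mem hg (xG_mem_group hF T a)) (inv_mem hg)
  have hz1p := conj_pow_prime hF p g T a
  have hz1n := xG_conj_ne_one hF hTlt ha g
  obtain ⟨W, hW, hWa, hWc, hWp⟩ := top_comm hF L hρ hl h0 a c
  set k := g * W * g⁻¹ with hk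
  have hkH : k ∈ H := by
    have : k = x'⁻¹ * (z1 * x' * z1⁻¹) := by
      rw [hk, hz1, hx', show (g * xG hF ρ c * g⁻¹)⁻¹ * (g * xG hF T a * g⁻¹ * (g * xG hF ρ c * g⁻¹) *
        (g * xG hF T a * g⁻¹)⁻¹) =
        g * ((xG hF ρ c)⁻¹ * (xG hF T a * xG hF ρ c * (xG hF T a)⁻¹)) * g⁻¹ by group, hW,
        inv_mul_cancel_left]
    rw [this]
    exact H.mul_mem (H.inv_mem h2) (H.mul_mem (H.mul_mem h1 h2) (H.inv_mem h1))
  by_cases hk1 : W = 1
  · rw [hk1, mul_one, mul_inv_eq_iff_eq_mul] at hW
    refine S.centralizer_fixed hD p hC hc hz1G h1' hz1p hz1n h2 ?_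
    exact (show Commute (xG hF ρ c) (xG hF T a) from hW.symm).map (MulAut.conj g).toMonoidHom
  · have hkz : Commute k z1 := hWa.map (MulAut.conj g).toMonoidHom
    have hkx : Commute x' k := (hWc.map (MulAut.conj g).toMonoidHom).symm
    have hkf := S.centralizer_fixed hD p hC hc hz1G h1' hz1p hz1n hkH hkz
    refine S.centralizer_fixed hD p hC hc (S.le_group hkH) hkf (m := 1) ?_ ?_ h2 hkx
    · rw [pow_one, hk, conj_pow, hWp p inferInstance, mul_one, mul_inv_cancel]
    · exact fun e => hk1 (conj_eq_one_iff.1 e)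

end Cfsg.Agent.Overgroup
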