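import Cfsg.Agent.Overgroup.Level

/-!
The field of parameters in special characteristic.
-/

set_option autoImplicit false
set_option linter.unusedSectionVars false

namespace Cfsg.Agent.Overgroup

open Cfsg.Lie Cfsg.Agent.Chev
open scoped MatrixGroups

universe u

variable {D : ChevalleyDatum} {C : Cert} {F : Type u} [Field F]
theorem wordG_filter_dvd (hF : Facts.{u} D) (p : ℕ) [CharP F p] (L : List (ℕ × ℤ × ℕ × ℕ)) {c d : F} :
    wordG hF (L.map fun e => (e.1, (e.2.1 : F) * c ^ e.2.2.1 * d ^ e.2.2.2)) =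
      wordG hF ((L.filter fun a => !Nat.beq (Nat.mod a.2.1.natAbs p) 0).map
        fun e => (e.1, (e.2.1 : F) * c ^ e.2.2.1 * d ^ e.2.2.2)) := by
  induction L with
  | nil => rfl
  | cons a L ih =>
    rw [List.map_cons, wordG_cons, ih, List.filter_cons]
    by_cases h : Nat.mod a.2.1.natAbs p = 0
    · have hz : (a.2.1 : F) = 0 :=
        (CharP.intCast_eq_zero_iff F p a.2.1).2 (Int.natCast_dvd.2 (Nat.dvd_of_mod_eq_zero h))
      rw [if_neg (by rw [Bool.not_eq_true']; simp [h]), hz, zero_mul, zero_mul, xG_zero,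
        one_mul]
    · rw [if_pos (by rw [Bool.not_eq_true', nbeq_false_iff]; exact h), List.map_cons, wordG_cons]


variable (hF : Facts.{u} D) {H : Subgroup (GL D.Idx F)}
  (h1 : ∀ s < D.nroots, xG hF s (1 : F) ∈ H) (hC : Checks D C)
  (p : ℕ) [Fact p.Prime] [CharP F p] {S : ℕ}
  (hS : chkSpecSteps D C p S = true) (hSp : half D ≤ S)
include h1 hC hS hSp

theorem S_short : lngB D C S = false ∧ S + 1 < D.nroots := by
  simp only [chkSpecSteps, Bool.and_eq_true, Bool.not_eq_true', nblt_iff] at hS
  exact ⟨hS.1.1.1, hS.1.1.2⟩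

theorem spec_step {r : ℕ} (hr : r < D.nroots) (hrp : half D ≤ r) (hne : r ≠ S) :
    (S < r → lngB D C r = true) ∧ ∃ s N, Step D p r s (tgt D C r s) N ∧
      lngB D C (tgt D C r s) = lngB D C r ∧ r < tgt D C r s + (if r + 1 = D.nroots then r + 1 else 0) ∧
      (S < r → ∀ c : F, Commute (xG hF S c) (xG hF s (1 : F))) := by
  simp only [chkSpecSteps, Bool.and_eq_true, allBelow_iff, Bool.or_eq_true, nblt_iff, nbeq_iff,
    nble_iff, List.any_eq_true, List.mem_range, beq_iff_eq, Bool.not_eq_true', nbeq_false_iff,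
    List.isEmpty_iff] at hS
  rcases hS.1.2 r hr with (h | h) | ⟨hcls, s, hs, ⟨hok, hlng⟩, hcomm⟩
  · omega
  · exact absurd h hne
  refine ⟨fun hlt => hcls.resolve_left (by omega), ?_⟩
  obtain ⟨N, st⟩ := step_of_chk hC (Or.inl rfl : Stands p p) hr hrp hs hok
  refine ⟨s, N, st, hlng, ?_, fun hlt c => ?_⟩
  · by_cases htop : r + 1 = D.nroots
    · rw [if_pos htop]; omega
    · rw [if_neg htop, add_zero]
      exact st.lt hF htop
  · rcases hcomm with (h | h) | ⟨h, hempty⟩
    · omega
    · subst h
      show _ = _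
      rw [xG_mul, xG_mul, add_comm]
    · have hSn : S < D.nroots := by omega
      refine commute_of_chk hF hs hSn ?_ 1 c
      rw [← commTerms_eq hC] at hempty
      rw [commutesChk, hempty, Chev.neg_eq hC hs, ← negN_eq, decide_eq_true h]
      simp

/-- The long leading parameters lie in those of the last root. -/
theorem leadLe_long : ∀ r, r < D.nroots → half D ≤ r → lngB D C r = true →
    LeadLe hF H r (A hF H (D.nroots - 1)) := by
  intro r
  induction hd : D.nroots - r using Nat.strong_induction_on generalizing r with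
  | _ d ih =>
    intro hr hp hl c h hh hm
    by_cases htop : r + 1 = D.nroots
    · rw [RF_top hF (by omega), Subgroup.mem_bot] at hh
      subst hh
      rw [mul_one] at hm
      rwa [show D.nroots - 1 = r by omega, mem_A hF]
    have hne : r ≠ S := fun e => by
      have := (S_short hF h1 hC p hS hSp).1
      rw [← e, hl] at this
      exact Bool.noConfusion this
    obtain ⟨-, s, N, st, hlng, hlt, -⟩ := spec_step hF h1 hC p hS hSp hr hp hne
    rw [if_neg htop, add_zero] at hlt
    exact mem_of_unit_mul hF p st.unit (transfer' hF h1 st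
      (ih _ (by omega) _ rfl st.lt_u st.pos_u (hlng.trans hl)) hh (Pre.of_mem hF h1 hm))

/-- Removing the long roots above `S`. -/
theorem loop (Q : GL D.Idx F → Prop) (hQl : ∀ a ∈ H, ∀ g, Q g → Q (a * g))
    (hQc : ∀ g, Q g → ∀ s < D.nroots, g * xG hF s 1 * g⁻¹ ∈ H)
    (base : ∀ c, Q (xG hF S c) → xG hF S c ∈ H) :
    ∀ j, S < j → ∀ c, ∀ h ∈ RF hF j, Q (xG hF S c * h) →
      xG hF S c * h ∈ H ∧ xG hF S c ∈ H := by
  intro j
  induction hd : D.nroots - j using Nat.strong_induction_on generalizing j with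
  | _ d ih =>
    intro hj c h hh hQ
    by_cases hjn : D.nroots ≤ j
    · rw [RF_top hF hjn, Subgroup.mem_bot] at hh
      subst hh
      rw [mul_one] at hQ ⊢
      exact ⟨base c hQ, base c hQ⟩
    have hjl : j < D.nroots := not_le.1 hjn
    obtain ⟨b, h', hh', rfl⟩ := exists_head hF (by omega : half D ≤ j) hjl hh
    obtain ⟨hlong, s, N, st, hlng, -, hcomm⟩ :=
      spec_step hF h1 hC p hS hSp hjl (by omega) (by omega : j ≠ S)
    obtain ⟨h'', hh'', hm⟩ := transfer hF h1 st (z := xG hF S c)
      (mem_posUnipotent_of hF (by omega) hSp c) (hcomm hj c) hh' (hQc _ hQ s st.lt_s)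
    have hb : b ∈ A hF H j := by
      rw [A_long hF h1 hC hjl (hlong hj)]
      exact mem_of_unit_mul hF p st.unit
        (leadLe_long hF h1 hC p hS hSp _ st.lt_u st.pos_u (hlng.trans (hlong hj)) _ h'' hh'' hm)
    have hxb : xG hF j b ∈ H := hb
    set E := (xG hF S c)⁻¹ * (xG hF j b)⁻¹ * xG hF S c * xG hF j b with hE
    have hEm : E ∈ RF hF (j + 1) := by
      have := conj_lead hF hjl (by omega) (inv_mem (mem_posUnipotent_of hF
        (show S < D.nroots by omega) hSp c)) (-b)
      rw [← xG_inv, inv_inv, inv_inv] at this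
      exact this
    have e : xG hF S c * (xG hF j b * h') = xG hF j b * (xG hF S c * (E * h')) := by
      rw [hE]; group
    rw [e] at hQ ⊢
    have hQ' := hQl _ (H.inv_mem hxb) _ hQ
    rw [inv_mul_cancel_left] at hQ'
    have := ih _ (by omega) (j + 1) rfl (by omega) c _ (mul_mem hEm hh') hQ'
    exact ⟨H.mul_mem hxb this.1, this.2⟩

theorem leadLe_short : ∀ r, r < D.nroots → half D ≤ r → lngB D C r = false →
    LeadLe hF H r (A hF H S) := by
  intro r
  induction hd : D.nroots - r using Nat.strong_induction_on generalizing r with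
  | _ d ih =>
    intro hr hp hl c h hh hm
    by_cases hrS : r = S
    · subst hrS
      exact (loop hF h1 hC p hS hSp (fun g => g ∈ H) (fun a ha g hg => H.mul_mem ha hg)
        (fun g hg => Pre.of_mem hF h1 hg) (fun c hc => hc) (r + 1) (by omega) c h hh hm).2
    obtain ⟨hlong, s, N, st, hlng, hlt, -⟩ := spec_step hF h1 hC p hS hSp hr hp hrS
    have htop : r + 1 ≠ D.nroots := fun e => by
      have := (S_short hF h1 hC p hS hSp).2
      rw [hlong (by omega)] at hl
      exact Bool.noConfusion hl
    rw [if_neg htop, add_zero] at hlt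
    exact mem_of_unit_mul hF p st.unit (transfer' hF h1 st
      (ih _ (by omega) _ rfl st.lt_u st.pos_u (hlng.trans hl)) hh (Pre.of_mem hF h1 hm))

variable [Finite F]

theorem pre_special {k : Subfield F} (hmem : ∀ r < D.nroots, ∀ t : F, xG hF r t ∈ H ↔ t ∈ k)
    (hlead : ∀ r < D.nroots, half D ≤ r → LeadLe hF H r k.toAddSubgroup) :
    ∀ g ∈ D.posUnipotent F, Pre hF H g → g ∈ H := by
  have hSn : S + 1 < D.nroots := (S_short hF h1 hC p hS hSp).2
  have hbase : ∀ c, Pre hF H (xG hF S c) → xG hF S c ∈ H := by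
    intro c hc
    have hS' := hS
    simp only [chkSpecSteps, Bool.and_eq_true, List.any_eq_true, List.mem_range] at hS'
    obtain ⟨s, hs, hok⟩ := hS'.2
    have hSlt : S < D.nroots := by omega
    obtain ⟨u, N, j, hterms, hu, n1, n2, hN⟩ := lit_of_chk hC hSlt hs hok
    have hw := hc s hs
    rw [conj_word hF hSlt hs n1 n2 c 1] at hw
    have hu' := H.mul_mem (H.inv_mem (h1 s hs)) hw
    rw [inv_mul_cancel_left, ChevalleyDatum.commWord, wordG_filter_dvd hF p, hterms] at hu'
    have : xG hF u ((N : F) * c) ∈ H := by simpa [wordG] using hu'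
    exact (hmem S hSlt c).2 (mem_of_unit_mul (S := k.toAddSubgroup) hF p
      (unit_of_unitQ (Or.inl rfl) hN) ((hmem u hu _).1 this))
  suffices key : ∀ j, half D ≤ j → ∀ g ∈ RF hF j, Pre hF H g → g ∈ H from
    fun g hg hp => key (half D) le_rfl g (by rwa [posUnipotent_eq hF] at hg) hp
  intro j
  induction hd : D.nroots - j using Nat.strong_induction_on generalizing j with
  | _ d ih =>
    intro hj g hg hp
    by_cases hjn : D.nroots ≤ j
    · rw [RF_top hF hjn, Subgroup.mem_bot] at hg; rw [hg]; exact H.one_mem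
    obtain ⟨c, h, hh, rfl⟩ := exists_head hF hj (by omega) hg
    by_cases hjS : j = S
    · subst hjS
      exact (loop hF h1 hC p hS hSp (Pre hF H) (fun a ha g hg => Pre.mul_left hF ha hg)
        (fun g hg => hg) hbase (j + 1) (by omega) c h hh hp).1
    obtain ⟨-, s, N, st, -, -, -⟩ := spec_step hF h1 hC p hS hSp (by omega : j < D.nroots) hj hjS
    have hc := mem_of_unit_mul hF p st.unit
      (transfer' hF h1 st (hlead _ st.lt_u st.pos_u) hh hp)
    have hx : xG hF j c ∈ H := (hmem j (by omega) c).2 hc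
    refine H.mul_mem hx (ih _ (by omega) (j + 1) rfl (by omega) h hh ?_)
    have := Pre.mul_left hF (H.inv_mem hx) hp
    rwa [inv_mul_cancel_left] at this

/-- The special characteristic. -/
theorem level_special (hA : chkA2 D C = true) (hT : chkTorus D C = true)
    (h2 : chkTwo D C S = true) (hP : chkPower D C p = true) :
    ∃ k : Subfield F, IsLevel hF H k := by
  have hn : D.nroots - 1 < D.nroots := by
    have := hF.simple_lt 0 hF.rank_pos; omega
  have hmul := mul_mem_of_A2 hF h1 hC hA
  set k := subfieldOf (A hF H (D.nroots - 1)) ((mem_A hF).2 (h1 _ hn)) hmul with hk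
  have hcls : ∀ r < D.nroots, half D ≤ r → LeadLe hF H r (A hF H r) := fun r hr hp => by
    cases hl : lngB D C r with
    | true => rw [A_long hF h1 hC hr hl]; exact leadLe_long hF h1 hC p hS hSp r hr hp hl
    | false => rw [A_short hF h1 hC h2 hr hl]; exact leadLe_short hF h1 hC p hS hSp r hr hp hl
  have hSk : ∀ c ∈ A hF H S, c ∈ k := by
    intro c hc
    simp only [chkPower, List.any_eq_true, List.mem_range, Bool.and_eq_true, Bool.not_eq_true',
      decide_eq_true_eq, List.all_eq_true, nble_iff, nbeq_iff] at hP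
    obtain ⟨r, hr, hlr, l, hl, ⟨⟨hll, hpw⟩, hpos⟩, ⟨u, N, i, j⟩, ha, ⟨hlu, rfl⟩, hN⟩ := hP
    obtain ⟨n1, n2⟩ : l ≠ r ∧ l ≠ D.neg r := by
      cases e : C.cTerms D r l with
      | nil => rw [e] at ha; simp at ha
      | cons a rest => exact ne_of_terms hC hr hl e
    rw [← commTerms_eq hC] at hpw hpos ha
    have hxr : xG hF r c ∈ H := by rwa [← mem_A hF, A_short hF h1 hC h2 hr hlr]
    have hw := conj_word hF hr hl n1 n2 c 1 (F := F)
    have hW : wordG hF (D.commWord F r l (-c) 1) ∈ H := by
      have := H.mul_mem (H.inv_mem (h1 l hl)) (H.mul_mem (H.mul_mem hxr (h1 l hl)) (H.inv_mem hxr))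
      rwa [hw, inv_mul_cancel_left] at this
    have := strip hF (D.commWord F r l (-c) 1) (fun q hq => by
        obtain ⟨e, he, rfl⟩ := List.mem_map.1 hq
        have hlt := hF.comm_lt r l hr hl e he
        exact ⟨hlt, hpos e he, hcls _ hlt (hpos e he)⟩)
      (by rw [ChevalleyDatum.commWord, List.pairwise_map]; exact hpw) hW _ (List.mem_map_of_mem ha)
    rw [A_long hF h1 hC (hF.comm_lt r l hr hl _ ha) hlu] at this
    simp only [neg_neg, one_pow, mul_one] at this
    exact mem_of_pow_mem i (mem_of_unit_mul hF i (unit_of_unitQ (Or.inl rfl) hN) this)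
  have hall : ∀ r < D.nroots, A hF H r = k.toAddSubgroup := fun r hr => by
    refine le_antisymm ?_ (le_A_of_torus hF h1 hC hT (k := k) rfl hr)
    cases hl : lngB D C r with
    | true => rw [A_long hF h1 hC hr hl]; exact le_rfl
    | false => rw [A_short hF h1 hC h2 hr hl]; exact hSk
  have hmem : ∀ r < D.nroots, ∀ t : F, xG hF r t ∈ H ↔ t ∈ k := fun r hr t => by
    rw [← mem_A hF, hall r hr]; rfl
  have hlead : ∀ r < D.nroots, half D ≤ r → LeadLe hF H r k.toAddSubgroup := fun r hr hp => by
    rw [← hall r hr]; exact hcls r hr hp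
  exact ⟨k, hmem, hlead, pre_special hF h1 hC p hS hSp hmem hlead⟩

end Cfsg.Agent.Overgroup
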