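import Cfsg.Agent.Chev.Semisimple.Ring

/-!
Specialisation of a finite subgroup of a group of root elements to a finite field.
-/

set_option autoImplicit false
set_option linter.unusedSectionVars false

namespace Cfsg.Agent.Overgroup

open Cfsg.Lie Cfsg.Agent.Chev
open scoped MatrixGroups

universe u

variable {k : Type u} [Field k]

/-- Finitely many elements of a field of characteristic `p` can be sent to a finite field without
killing any nonzero one of them. -/
theorem exists_specialisation (p : ℕ) [Fact p.Prime] [CharP k p] (S : Finset k) :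
    ∃ (R : Subring k) (F : Type u) (_ : Field F) (_ : Finite F) (_ : CharP F p) (φ : R →+* F),
      (∀ s ∈ S, s ∈ R) ∧ ∀ (s : R), (s : k) ∈ S → φ s = 0 → (s : k) = 0 := by
  classical
  letI := ZMod.algebra k p
  set f : k := ∏ s ∈ S.filter (fun s => s ≠ 0), s with hf
  have hf0 : f ≠ 0 := Finset.prod_ne_zero_iff.2 fun s hs => (Finset.mem_filter.1 hs).2
  set T : Finset k := insert f⁻¹ S
  set A : Subalgebra (ZMod p) k := Algebra.adjoin (ZMod p) (↑T : Set k) with hA
  have hSA : ∀ s ∈ T, s ∈ A := fun s hs => Algebra.subset_adjoin hs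
  haveI : Algebra.FiniteType (ZMod p) A :=
    (Subalgebra.fg_iff_finiteType A).1 (Subalgebra.fg_adjoin_finset T)
  obtain ⟨m, hm⟩ := Ideal.exists_maximal A
  letI : Field (A ⧸ m) := Ideal.Quotient.field m
  haveI : Algebra.FiniteType (ZMod p) (A ⧸ m) :=
    Algebra.FiniteType.of_surjective (Ideal.Quotient.mkₐ (ZMod p) m) Ideal.Quotient.mk_surjective
  haveI : Module.Finite (ZMod p) (A ⧸ m) := finite_of_finite_type_of_isJacobsonRing _ _
  haveI : Finite (A ⧸ m) := Module.finite_of_finite (ZMod p)
  haveI : CharP (A ⧸ m) p := charP_of_injective_algebraMap (algebraMap (ZMod p) (A ⧸ m)).injective p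
  let φ : A.toSubring →+* A ⧸ m := Ideal.Quotient.mk m
  refine ⟨A.toSubring, A ⧸ m, inferInstance, inferInstance, inferInstance, φ,
    fun s hs => hSA s (Finset.mem_insert_of_mem hs), fun s hs h0 => ?_⟩
  by_contra hne
  have hsS : (s : k) ∈ S.filter (fun s => s ≠ 0) := Finset.mem_filter.2 ⟨hs, hne⟩
  have hrest : (∏ x ∈ (S.filter (fun s => s ≠ 0)).erase (s : k), x) * f⁻¹ ∈ A :=
    A.mul_mem (A.prod_mem fun x hx => hSA x (Finset.mem_insert_of_mem
      (Finset.mem_filter.1 (Finset.mem_of_mem_erase hx)).1)) (hSA _ (Finset.mem_insert_self _ _))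
  have e : s * (⟨_, hrest⟩ : A.toSubring) = 1 := by
    apply Subtype.ext
    show (s : k) * (_ * f⁻¹) = 1
    rw [← mul_assoc, Finset.mul_prod_erase _ (fun x => x) hsS]
    exact mul_inv_cancel₀ hf0
  have := congrArg φ e
  rw [map_mul, h0, zero_mul, map_one] at this
  exact zero_ne_one this

variable {D : ChevalleyDatum} (hF : Facts.{u} D)
include hF

/-- The group of root elements over a subring. -/
noncomputable def rootsR (R : Subring k) : Subgroup (GL D.Idx R) :=
  Subgroup.closure {g | ∃ (r : Fin D.nroots) (t : R), g = SS.xU D hF R r t}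

theorem map_rootsR_le (R : Subring k) {F : Type u} [Field F] (f : R →+* F) :
    (rootsR hF R).map (Matrix.GeneralLinearGroup.map f) ≤ D.group F := by
  rw [rootsR, MonoidHom.map_closure, Subgroup.closure_le]
  rintro _ ⟨_, ⟨r, t, rfl⟩, rfl⟩
  rw [SS.map_xU]
  exact xG_mem_group hF _ _

/-- Each element of the group lives over a finitely generated ring. -/
theorem exists_params {g : GL D.Idx k} (hg : g ∈ D.group k) :
    ∃ S : Finset k, ∀ R : Subring k, (∀ s ∈ S, s ∈ R) →
      g ∈ (rootsR hF R).map (Matrix.GeneralLinearGroup.map R.subtype) := by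
  classical
  induction hg using Subgroup.closure_induction with
  | mem g hg =>
    obtain ⟨r, t, e⟩ := hg
    obtain rfl : g = xG hF r t := Units.ext (e.trans (by rw [xG_val, ChevalleyDatum.x, dif_pos r.2]))
    exact ⟨{t}, fun R hR => ⟨SS.xU D hF R r ⟨t, hR t (Finset.mem_singleton_self t)⟩,
      Subgroup.subset_closure ⟨r, _, rfl⟩, by rw [SS.map_xU]; rfl⟩⟩
  | one => exact ⟨∅, fun R _ => one_mem _⟩
  | mul a b _ _ iha ihb =>
    obtain ⟨Sa, ha⟩ := iha
    obtain ⟨Sb, hb⟩ := ihb
    exact ⟨Sa ∪ Sb, fun R hR => mul_mem (ha R fun s hs => hR s (Finset.mem_union_left _ hs))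
      (hb R fun s hs => hR s (Finset.mem_union_right _ hs))⟩
  | inv a _ iha =>
    obtain ⟨Sa, ha⟩ := iha
    exact ⟨Sa, fun R hR => inv_mem (ha R hR)⟩

end Cfsg.Agent.Overgroup
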