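import Cfsg.Agent.Overgroup.Level
import Cfsg.Agent.Overgroup.Fixed

/-!
The parabolic parts of an overgroup and the centralisers of its fixed unipotent elements.
-/

set_option autoImplicit false
set_option linter.unusedSectionVars false
set_option linter.unusedDecidableInType false

namespace Cfsg.Agent.Overgroup

open Cfsg.Lie Cfsg.Agent.Chev
open scoped MatrixGroups

universe u

/-- An overgroup together with an endomorphism of the field fixing its field of parameters. -/
structure Setting {D : ChevalleyDatum} {F : Type u} [Field F] (hF : Facts.{u} D)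
    (H : Subgroup (GL D.Idx F)) (σ : F →+* F) : Prop where
  le_group : H ≤ D.group F
  mem : ∀ r < D.nroots, ∀ t : F, xG hF r t ∈ H ↔ σ t = t
  lead : ∀ r < D.nroots, half D ≤ r → ∀ c : F, ∀ h ∈ RF hF (r + 1), xG hF r c * h ∈ H → σ c = c
  pre : ∀ g ∈ D.posUnipotent F, Pre hF H g → g ∈ H

variable {D : ChevalleyDatum} {F : Type u} [Field F] {hF : Facts.{u} D}
  {H : Subgroup (GL D.Idx F)} {σ : F →+* F}

theorem Setting.fixedRoots_le (S : Setting hF H σ) : fixedRoots hF σ ≤ H := by
  refine (Subgroup.closure_le _).2 ?_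
  rintro _ ⟨s, t, ht, rfl⟩
  by_cases hs : s < D.nroots
  · exact (S.mem s hs t).2 ht
  · rw [show xG hF s t = 1 from Units.ext (x_of_ge hs t)]
    exact one_mem _

theorem Setting.one_mem' (S : Setting hF H σ) (s : ℕ) : xG hF s (1 : F) ∈ H :=
  S.fixedRoots_le (xG_mem_fixedRoots hF σ s (map_one σ))

theorem Setting.unipotent_fixed (S : Setting hF H σ) {v : GL D.Idx F}
    (hv : v ∈ D.posUnipotent F) (hvH : v ∈ H) : gmap D σ v = v := by
  suffices key : ∀ d j, D.nroots - j = d → half D ≤ j → ∀ g ∈ RF hF j (F := F), g ∈ H →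
      gmap D σ g = g from
    key _ _ rfl le_rfl v (by rwa [posUnipotent_eq hF] at hv) hvH
  intro d
  induction d with
  | zero =>
    intro j hd hj g hg _
    rw [RF_top hF (by omega), Subgroup.mem_bot] at hg
    rw [hg, map_one]
  | succ d ih =>
    intro j hd hj g hg hgH
    obtain ⟨c, h, hh, rfl⟩ := exists_head hF hj (by omega) hg
    have hc := S.lead j (by omega) hj c h hh hgH
    have hx := (S.mem j (by omega) c).2 hc
    have hhH : h ∈ H := by
      have := H.mul_mem (H.inv_mem hx) hgH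
      rwa [inv_mul_cancel_left] at this
    rw [map_mul, gmap_xG hF hF, hc, ih (j + 1) (by omega) (by omega) h hh hhH]

theorem chiU_neg (hF : Facts.{u} D) (c : Fin D.rank → Fˣ) {s : ℕ} (hs : s < D.nroots) :
    chiU c (D.neg s) = (chiU c s)⁻¹ := by
  rw [chiU, chiU, ← Finset.prod_inv_distrib]
  exact Finset.prod_congr rfl fun j _ => by rw [hF.cartan_neg s hs j j.2, zpow_neg]

theorem Setting.borel_fixed (S : Setting hF H σ) {b : GL D.Idx F}
    (hb : b ∈ D.borelSubgroup F) (hbH : b ∈ H) : gmap D σ b = b := by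
  obtain ⟨v, hv, c, rfl⟩ := (mem_borel_iff hF).1 hb
  have hconj : ∀ r, r < D.nroots → ∀ a : F,
      torusHom c * xG hF r a * (torusHom c)⁻¹ = xG hF r ((chiU c r : F) * a) := fun r hr a => by
    rw [torusHom_conj hF c hr, mul_inv_cancel_right]
  have hpos : ∀ r, r < D.nroots → half D ≤ r → σ (chiU c r : F) = chiU c r := by
    intro r hr hp
    have hlead := conj_lead hF hr hp hv (chiU c r : F)
    have hx : v * xG hF r (chiU c r : F) * v⁻¹ ∈ H := by
      have := H.mul_mem (H.mul_mem hbH (S.one_mem' r)) (H.inv_mem hbH)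
      rwa [show v * torusHom c * xG hF r 1 * (v * torusHom c)⁻¹ =
        v * (torusHom c * xG hF r 1 * (torusHom c)⁻¹) * v⁻¹ by group, hconj r hr, mul_one] at this
    refine S.lead r hr hp _ ((xG hF r (chiU c r : F))⁻¹ *
      (v * xG hF r (chiU c r : F) * v⁻¹ * (xG hF r (chiU c r : F))⁻¹) * xG hF r (chiU c r : F))
      (conj_mem_RF' hF (by omega) (mem_posUnipotent_of hF hr hp _) hlead) ?_
    rwa [← mul_assoc, ← mul_assoc, mul_inv_cancel, one_mul, inv_mul_cancel_right]
  have hchi : ∀ r, r < D.nroots → σ (chiU c r : F) = chiU c r := by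
    intro r hr
    by_cases hp : half D ≤ r
    · exact hpos r hr hp
    · have h1 := hpos _ (neg_lt hF hr) (by
        by_contra hne
        exact hp ((neg_lt_half_iff hF hr).1 (not_le.1 hne)))
      rw [chiU_neg hF c hr, Units.val_inv_eq_inv_val, map_inv₀] at h1
      exact inv_injective h1
  have ht : gmap D σ (torusHom c) = torusHom c := by
    apply Units.ext
    ext a a'
    rw [gmap_apply]
    by_cases e : a = a'
    · subst e
      rcases a with j | s
      · simp [torusHom, diagG]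
      · simpa [torusHom, diagG] using hchi s s.2
    · simp [torusHom, diagG, Matrix.diagonal_apply_ne _ e]
  have hvH : v ∈ H := by
    refine S.pre v hv fun s hs => ?_
    have hz : σ ((chiU c s : F)⁻¹) = (chiU c s : F)⁻¹ := by rw [map_inv₀, hchi s hs]
    have := H.mul_mem (H.mul_mem hbH ((S.mem s hs _).2 hz)) (H.inv_mem hbH)
    rwa [show v * torusHom c * xG hF s (chiU c s : F)⁻¹ * (v * torusHom c)⁻¹ =
      v * (torusHom c * xG hF s (chiU c s : F)⁻¹ * (torusHom c)⁻¹) * v⁻¹ by group, hconj s hs,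
      mul_inv_cancel₀ (Units.ne_zero _)] at this
  rw [map_mul, S.unipotent_fixed hv hvH, ht]

variable [Fintype F] {C : Cert}

theorem Setting.parabolic_fixed (S : Setting hF H σ) (hC : Checks D C)
    (hc : chkLinked D C = true) {J : Finset (Fin D.rank)} (hJ : ∃ i, i ∉ J) {h : GL D.Idx F}
    (hP : h ∈ (PJ J : Subgroup (GL D.Idx F))) (hH : h ∈ H) : gmap D σ h = h := by
  obtain ⟨i, hi⟩ := hJ
  have hG := S.le_group hH
  have hcen : ∀ r : Fin D.nroots, half D ≤ (r : ℕ) →
      ¬ D.InRootSub (↑(J.map Fin.valEmbedding) : Set ℕ) r →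
      h⁻¹ * gmap D σ h * xG hF r 1 * (h⁻¹ * gmap D σ h)⁻¹ = xG hF r 1 := by
    intro r hr hin
    have hx : xG hF r (1 : F) ∈ D.unipotentRadical F (↑(J.map Fin.valEmbedding) : Set ℕ) :=
      Subgroup.subset_closure ⟨r, 1, (hF.posRoot_iff r r.2).2 hr, hin, rfl⟩
    have hU : D.unipotentRadical F (↑(J.map Fin.valEmbedding) : Set ℕ) ≤ D.posUnipotent F := by
      refine (Subgroup.closure_le _).2 ?_
      rintro g ⟨k, t, hk, -, e⟩
      exact Subgroup.subset_closure ⟨k, t, hk, e⟩
    have hfix := S.unipotent_fixed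
      (hU ((Subgroup.mem_normalizer_iff.1 (parabolic_le_normalizer hF _ hP) _).1 hx))
      (H.mul_mem (H.mul_mem hH (S.one_mem' r)) (H.inv_mem hH))
    rw [map_mul, map_mul, map_inv, gmap_xG hF hF, map_one] at hfix
    calc h⁻¹ * gmap D σ h * xG hF r 1 * (h⁻¹ * gmap D σ h)⁻¹
        = h⁻¹ * (gmap D σ h * xG hF r 1 * (gmap D σ h)⁻¹) * h := by group
      _ = _ := by rw [hfix]; group
  have hB := borel_of_centralizes hF hC hc (J := (↑(J.map Fin.valEmbedding) : Set ℕ)) (i := i)
    (by simpa [Fin.val_inj] using hi) (mul_mem (inv_mem hG) (gmap_mem_group hF hF σ hG)) hcen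
  obtain ⟨f, hf, hfh⟩ := descent hF σ ∅ hG (SteinbergValue.borel_le_PJ hF ∅ hB)
  have hfix := S.borel_fixed (mem_borel_of_PJ_empty hF hfh)
    (H.mul_mem (H.inv_mem (S.fixedRoots_le hf)) hH)
  rw [map_mul, map_inv, fixed_of_mem_fixedRoots hF σ hf] at hfix
  exact mul_left_cancel hfix

variable (hD : D ∈ [chevG2, chevB2, chevD4, chevF4, chevE6, chevE7, chevE8])
  (p : ℕ) [Fact p.Prime] [CharP F p]
include hD

/-- The centraliser in `H` of a fixed `p`-element is fixed. -/
theorem Setting.centralizer_fixed (S : Setting hF H σ) (hC : Checks D C)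
    (hc : chkLinked D C = true) {z : GL D.Idx F} (hz : z ∈ D.group F) (hfix : gmap D σ z = z)
    {m : ℕ} (hp : z ^ p ^ m = 1) (hne : z ≠ 1) {h : GL D.Idx F} (hH : h ∈ H)
    (hcz : Commute h z) : gmap D σ h = h := by
  obtain ⟨f, hf, J, hJ, hJc⟩ := central_parabolic hF σ hD p hz hfix hp hne
  have hff := fixed_of_mem_fixedRoots hF σ hf
  have := S.parabolic_fixed hC hc hJ (hJc h (S.le_group hH) hcz)
    (H.mul_mem (H.mul_mem (H.inv_mem (S.fixedRoots_le hf)) hH) (S.fixedRoots_le hf))
  rw [map_mul, map_mul, map_inv, hff] at this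
  exact mul_left_cancel (mul_right_cancel this)

/-- An element carrying a fixed `p`-element to a fixed element is fixed. -/
theorem Setting.transporter_fixed (S : Setting hF H σ) (hC : Checks D C)
    (hc : chkLinked D C = true) {z : GL D.Idx F} (hz : z ∈ D.group F) (hfix : gmap D σ z = z)
    {m : ℕ} (hp : z ^ p ^ m = 1) (hne : z ≠ 1) {h : GL D.Idx F} (hH : h ∈ H)
    (hhz : gmap D σ (h * z * h⁻¹) = h * z * h⁻¹) : gmap D σ h = h := by
  rw [map_mul, map_mul, map_inv, hfix] at hhz
  have hcz : Commute (h⁻¹ * gmap D σ h) z := by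
    show h⁻¹ * gmap D σ h * z = z * (h⁻¹ * gmap D σ h)
    calc h⁻¹ * gmap D σ h * z = h⁻¹ * (gmap D σ h * z * (gmap D σ h)⁻¹) * gmap D σ h := by group
      _ = _ := by rw [hhz]; group
  have hG := S.le_group hH
  obtain ⟨f, hf, J, hJ, hJc⟩ := central_parabolic hF σ hD p hz hfix hp hne
  have hff := fixed_of_mem_fixedRoots hF σ hf
  have hJP := hJc _ (mul_mem (inv_mem hG) (gmap_mem_group hF hF σ hG)) hcz
  obtain ⟨f', hf', hq⟩ := descent hF σ J (mul_mem hG (fixedRoots_le_group hF σ hf)) (by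
    rw [map_mul, hff, show (h * f)⁻¹ * (gmap D σ h * f) = f⁻¹ * (h⁻¹ * gmap D σ h) * f by group]
    exact hJP)
  have := S.parabolic_fixed hC hc hJ hq
    (H.mul_mem (H.inv_mem (S.fixedRoots_le hf')) (H.mul_mem hH (S.fixedRoots_le hf)))
  rw [map_mul, map_mul, map_inv, fixed_of_mem_fixedRoots hF σ hf', hff] at this
  exact mul_right_cancel (mul_left_cancel this)

end Cfsg.Agent.Overgroup
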